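import Cfsg.Agent.H23.StarPart
import Cfsg.Agent.H23.Nilpotent
import Cfsg.Agent.H23.DefectPair
import Cfsg.Agent.H22.CentralInt

/-!
# Stable functions on a defect group and their stars

`H23.hStar p P e lam`: the function on pairs `(u, b)` given by a stable function on `P`.
`H23.exists_irr_star`: a stable linear function sends an irreducible character of the block to one.
`H23.sum_pairs_nilpotent`: for an inner fusion system a sum over pairs is a sum over `P`.
-/

set_option autoImplicit false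
set_option linter.style.haveILetI false
set_option linter.unusedSectionVars false

open Cfsg
open scoped MonoidAlgebra ComplexConjugate

namespace H23

universe u

variable {G : Type u} [Group G] [Fintype G] {p : ℕ} [hp : Fact p.Prime] {M : Ideal AlgInt}
  [hMp : M.IsPrime] [CharP (H20.k M) p] [IsAlgClosed (H20.k M)]

local notation "kG" => MonoidAlgebra (H20.k M) G

/-- Constancy on the pairs below `(P, e)` that are conjugate. -/
def Stable (p : ℕ) (P : Subgroup G) (e : kG) (lam : G → ℂ) : Prop :=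
  ∀ y ∈ P, ∀ (g : G) (b : kG), Le p (Subgroup.zpowers y, b) (P, e) →
    Le p (Subgroup.zpowers (g * y * g⁻¹), cj g b) (P, e) → lam (g * y * g⁻¹) = lam y

/-- The fusion on single elements is inner. -/
def InnerOnElements (p : ℕ) (P : Subgroup G) (e : kG) : Prop :=
  ∀ y ∈ P, ∀ (g : G) (b : kG), Le p (Subgroup.zpowers y, b) (P, e) →
    Le p (Subgroup.zpowers (g * y * g⁻¹), cj g b) (P, e) → ∃ π ∈ P, π * y * π⁻¹ = g * y * g⁻¹

open Classical in
/-- The function on pairs attached to a function on `P`. -/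
noncomputable def hStar (p : ℕ) (P : Subgroup G) (e : kG) (lam : G → ℂ) (u : G) (b : kG) : ℂ :=
  if hx : ∃ x : G, Le p (Subgroup.zpowers u, b) (cjS x P, cj x e) then
    lam (hx.choose⁻¹ * u * hx.choose) else 0

variable {P : Subgroup G} {e : MonoidAlgebra (H20.k M) G} {B : Set (IrrCharacter G)}
  {lam mu : G → ℂ}

theorem le_pull {u x : G} {b : kG} (h : Le p (Subgroup.zpowers u, b) (cjS x P, cj x e)) :
    Le p (Subgroup.zpowers (x⁻¹ * u * x), cj x⁻¹ b) (P, e) := by
  have := h.cj p x⁻¹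
  simp only at this
  rwa [cjS_zpowers, cjS_cjS, inv_mul_cancel, cjS_one, cj_inv_cancel, inv_inv] at this

theorem le_push {y x : G} {b : kG} (h : Le p (Subgroup.zpowers y, b) (P, e)) :
    Le p (Subgroup.zpowers (x * y * x⁻¹), cj x b) (cjS x P, cj x e) := by
  have := h.cj p x
  simp only at this
  rwa [cjS_zpowers] at this

theorem mem_of_le {y : G} {b : kG} (h : Le p (Subgroup.zpowers y, b) (P, e)) : y ∈ P :=
  h.le p (Subgroup.mem_zpowers y)

theorem hStar_eq (hs : Stable p P e lam) {u x : G} {b : kG}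
    (h : Le p (Subgroup.zpowers u, b) (cjS x P, cj x e)) :
    hStar p P e lam u b = lam (x⁻¹ * u * x) := by
  classical
  have hex : ∃ x : G, Le p (Subgroup.zpowers u, b) (cjS x P, cj x e) := ⟨x, h⟩
  rw [hStar, dif_pos hex]
  set x' := hex.choose
  have h1 := le_pull h
  have h2 := le_pull hex.choose_spec
  have := hs _ (mem_of_le h1) (x'⁻¹ * x) _ h1 (by
    rw [show x'⁻¹ * x * (x⁻¹ * u * x) * (x'⁻¹ * x)⁻¹ = x'⁻¹ * u * x' by group, cj_cj,
      show x'⁻¹ * x * x⁻¹ = x'⁻¹ by group]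
    exact h2)
  rw [show x'⁻¹ * x * (x⁻¹ * u * x) * (x'⁻¹ * x)⁻¹ = x'⁻¹ * u * x' by group] at this
  exact this

theorem hStar_below (hs : Stable p P e lam) {y : G} {b : kG}
    (h : Le p (Subgroup.zpowers y, b) (P, e)) : hStar p P e lam y b = lam y := by
  rw [hStar_eq hs (x := 1) (by rwa [cjS_one, cj_one])]
  simp

theorem hStar_mul (u : G) (b : kG) :
    hStar p P e lam u b * hStar p P e mu u b = hStar p P e (lam * mu) u b := by
  classical
  by_cases h : ∃ x : G, Le p (Subgroup.zpowers u, b) (cjS x P, cj x e)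
  · simp only [hStar, dif_pos h, Pi.mul_apply]
  · simp only [hStar, dif_neg h, mul_zero]

theorem hStar_conj (u : G) (b : kG) :
    conj (hStar p P e lam u b) = hStar p P e (fun g => conj (lam g)) u b := by
  classical
  by_cases h : ∃ x : G, Le p (Subgroup.zpowers u, b) (cjS x P, cj x e)
  · simp only [hStar, dif_pos h]
  · simp only [hStar, dif_neg h, map_zero]

theorem hInv_hStar (hs : Stable p P e lam) : HInv (hStar p P e lam) := by
  classical
  intro x u b
  by_cases h : ∃ z : G, Le p (Subgroup.zpowers u, b) (cjS z P, cj z e)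
  · obtain ⟨z, hz⟩ := h
    have h' := hz.cj p x
    simp only at h'
    rw [cjS_zpowers, cjS_cjS, cj_cj] at h'
    rw [hStar_eq hs hz, hStar_eq hs h']
    congr 1
    group
  · rw [hStar, hStar, dif_neg h, dif_neg fun h' => h ?_]
    obtain ⟨z, hz⟩ := h'
    have h1 := hz.cj p x⁻¹
    simp only at h1
    rw [cjS_zpowers, cjS_cjS, cj_cj, cj_cj, inv_mul_cancel, cj_one, inv_inv,
      show x⁻¹ * (x * u * x⁻¹) * x = u by group] at h1
    exact ⟨x⁻¹ * z, h1⟩

theorem hLocal_hStar (hB : IsPBlock M B) (hmax : IsMax p (eB M B) P e) (hs : Stable p P e lam)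
    (hlam : IsGeneralizedCharacter P (fun y : P => lam (y : G))) :
    HLocal p (hStar p P e lam) := by
  classical
  intro R f hf
  by_cases hin : InBlk (eB M B) R f
  · obtain ⟨x, hx⟩ := exists_conj_le p (isBlk_eB hB) hmax hf hin
    have hmem : ∀ q : R, x * (q : G) * x⁻¹ ∈ P := fun q =>
      hx.le p (mem_cjS.2 (by simp [mul_assoc]))
    let φ : R →* P := MonoidHom.mk' (fun q => ⟨x * (q : G) * x⁻¹, hmem q⟩)
      fun a b => Subtype.ext (by simp [mul_assoc])
    obtain ⟨α, β, hα, hβ, he⟩ := hlam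
    refine ⟨fun q => lam (x * (q : G) * x⁻¹), ⟨fun q => α (φ q), fun q => β (φ q),
      H12.IsCharacter.comp hα φ, H12.IsCharacter.comp hβ φ, funext fun q => congrFun he (φ q)⟩,
      fun q b hqb => ?_⟩
    rw [hStar_eq hs (x := x⁻¹) (u := (q : G)) (b := b) (hqb.trans ?_), inv_inv]
    have := hx.cj p x⁻¹
    rwa [cjS_cjS, inv_mul_cancel, cjS_one, cj_inv_cancel] at this
  · refine ⟨0, ⟨0, 0, H12.isCharacter_zero, H12.isCharacter_zero, by simp⟩, fun q b hqb => ?_⟩
    rw [hStar, dif_neg]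
    · rfl
    rintro ⟨z, hz⟩
    refine hin ((Le.inBlk_iff p hqb (cidem_eB hB)).2 ?_)
    exact (Le.inBlk_iff p hz (cidem_eB hB)).1 (inBlk_cj (cidem_eB hB).fix hmax.2.1 z)

/-- A pair in the block lies below a conjugate of `(P, e)`. -/
theorem exists_below (hB : IsPBlock M B) (hmax : IsMax p (eB M B) P e) {u : G}
    (hu : ∃ j : ℕ, orderOf u = p ^ j) {b : kG} (hb : b ∈ Bls M u)
    (hin : InBlk (eB M B) (Subgroup.zpowers u) b) :
    ∃ x : G, Le p (Subgroup.zpowers u, b) (cjS x P, cj x e) := by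
  obtain ⟨j, hj⟩ := hu
  obtain ⟨x, hx⟩ := exists_conj_le p (isBlk_eB hB) hmax
    ⟨IsPGroup.of_card (n := j) (by rw [Nat.card_zpowers]; exact hj), mem_Bls.1 hb⟩ hin
  refine ⟨x⁻¹, ?_⟩
  have := hx.cj p x⁻¹
  rwa [cjS_cjS, inv_mul_cancel, cjS_one, cj_inv_cancel] at this

theorem stable_one : Stable p P e (1 : G → ℂ) := fun _ _ _ _ _ _ => rfl

theorem hStar_eq_zero (hB : IsPBlock M B) (hmax : IsMax p (eB M B) P e) {u : G} {b : kG}
    (hn : ¬ InBlk (eB M B) (Subgroup.zpowers u) b) : hStar p P e lam u b = 0 := by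
  classical
  rw [hStar, dif_neg]
  rintro ⟨z, hz⟩
  exact hn ((Le.inBlk_iff p hz (cidem_eB hB)).1 (inBlk_cj (cidem_eB hB).fix hmax.2.1 z))

/-- The star of the constant function is the identity on the block. -/
theorem starFn_one (hM : IsPModular p M) (hB : IsPBlock M B) (hmax : IsMax p (eB M B) P e)
    {χ : IrrCharacter G} (hχ : χ ∈ B) :
    starFn p (hStar p P e 1) χ = (χ : G → ℂ) := by
  classical
  funext g
  rw [starFn_eq]
  have hid : ∀ b ∈ Bls M (H20.pPart p g), IsId g b := fun b hb =>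
    ⟨(mem_Bls.1 hb).cidem.idem,
      isFix_iff_cj.1 (mem_Bls.1 hb).cidem.fix g (mem_centralizer_pPart g)⟩
  have horth : ∀ b ∈ Bls M (H20.pPart p g), ∀ b' ∈ Bls M (H20.pPart p g), b ≠ b' → b * b' = 0 :=
    fun b hb b' hb' hne => by
      by_contra h
      exact hne ((mem_Bls.1 hb).eq_of_mul_ne_zero (mem_Bls.1 hb') h)
  have h1 : (χ : G → ℂ) g = ∑ b ∈ Bls M (H20.pPart p g), T χ g b := by
    rw [← T_sum χ _ (fun b => b) hid horth, sum_Bls, T_one]
  rw [h1]
  refine Finset.sum_congr rfl fun b hb => ?_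
  by_cases hin : InBlk (eB M B) (Subgroup.zpowers (H20.pPart p g)) b
  · obtain ⟨x, hx⟩ := exists_below hB hmax (H20.exists_orderOf_pPart g) hb hin
    rw [hStar_eq stable_one hx, Pi.one_apply, one_mul]
  · rw [T_eq_zero_of_not_inBlk hM hB hχ hb hin, mul_zero]

/-- The norm is one when the function has absolute value one. -/
theorem classInner_starFn_self (hM : IsPModular p M) (hB : IsPBlock M B)
    (hmax : IsMax p (eB M B) P e) (h1 : ∀ y ∈ P, lam y * conj (lam y) = 1) {χ : IrrCharacter G}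
    (hχ : χ ∈ B) :
    classInner (starFn p (hStar p P e lam) χ) (starFn p (hStar p P e lam) χ) = 1 := by
  classical
  have h := H12.classInner_irr_self χ
  rw [← starFn_one hM hB hmax hχ] at h
  rw [← h, classInner_starFn hM, classInner_starFn hM]
  refine congrArg _ (Finset.sum_congr rfl fun u _ => Finset.sum_congr rfl fun b _ => ?_)
  congr 1
  by_cases hx : ∃ x : G, Le p (Subgroup.zpowers u, b) (cjS x P, cj x e)
  · simp only [hStar, dif_pos hx, Pi.one_apply, map_one, mul_one]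
    exact h1 _ (mem_of_le (le_pull hx.choose_spec))
  · simp only [hStar, dif_neg hx, zero_mul]

theorem starFn_apply_one (hM : IsPModular p M) (hB : IsPBlock M B)
    (hmax : IsMax p (eB M B) P e) (hs : Stable p P e lam) {χ : IrrCharacter G} (hχ : χ ∈ B) :
    starFn p (hStar p P e lam) χ 1 = lam 1 * (χ : G → ℂ) 1 := by
  classical
  have hp1 : H20.pPart p (1 : G) = 1 := H20.pPart_eq_self ⟨0, by simp⟩
  rw [← starFn_one hM hB hmax hχ, starFn_eq, starFn_eq, Finset.mul_sum]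
  refine Finset.sum_congr rfl fun b hb => ?_
  by_cases hin : InBlk (eB M B) (Subgroup.zpowers (H20.pPart p (1 : G))) b
  · obtain ⟨x, hx⟩ := exists_below hB hmax (H20.exists_orderOf_pPart _) hb hin
    rw [hStar_eq stable_one hx, hStar_eq hs hx, hp1, Pi.one_apply, mul_one, inv_mul_cancel,
      one_mul]
  · rw [T_eq_zero_of_not_inBlk hM hB hχ hb hin, mul_zero, mul_zero, mul_zero]

/-- A star which is irreducible lies in the block. -/
theorem mem_of_star (hM : IsPModular p M) (hB : IsPBlock M B)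
    (hmax : IsMax p (eB M B) P e) (hs : Stable p P e lam) (hl0 : lam 1 ≠ 0)
    {χ ξ : IrrCharacter G} (hχ : χ ∈ B) (hξ : (ξ : G → ℂ) = starFn p (hStar p P e lam) χ) :
    ξ ∈ B := by
  classical
  have hp1 : H20.pPart p (1 : G) = 1 := H20.pPart_eq_self ⟨0, by simp⟩
  have hC : Subgroup.centralizer (Subgroup.zpowers (H20.pPart p (1 : G)) : Set G) = ⊤ := by
    rw [hp1, Subgroup.zpowers_one_eq_bot, centralizer_bot_eq_top]
  have hb : eB M B ∈ Bls M (H20.pPart p (1 : G)) := mem_Bls.2 (by rw [hC]; exact isBlk_eB hB)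
  have h := T_star hM hξ (g := (1 : G)) hb
  by_contra hξB
  rw [T_one_eq_eB hB, if_neg hξB, T_one_eq_eB hB, if_pos hχ] at h
  obtain ⟨x, hx⟩ := exists_below hB hmax (H20.exists_orderOf_pPart _) hb (by
    show _ * _ = _
    rw [Br_eq_self ((mem_Bls.1 hb).cidem.supp), (cidem_eB hB).idem])
  rw [hStar_eq hs hx, hp1] at h
  simp only [mul_one, inv_mul_cancel] at h
  exact mul_ne_zero hl0 (H12.irr_apply_one_ne_zero χ) h.symm

/-- A stable linear function permutes the irreducible characters of the block. -/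
theorem exists_irr_star (hM : IsPModular p M) (hB : IsPBlock M B)
    (hmax : IsMax p (eB M B) P e) (hs : Stable p P e lam)
    (hlam : IsGeneralizedCharacter P (fun y : P => lam (y : G))) (hl1 : lam 1 = 1)
    (h1 : ∀ y ∈ P, lam y * conj (lam y) = 1) {χ : IrrCharacter G} (hχ : χ ∈ B) :
    ∃ ξ : IrrCharacter G, ξ ∈ B ∧ (ξ : G → ℂ) = starFn p (hStar p P e lam) χ ∧
      charDegree (ξ : G → ℂ) = charDegree (χ : G → ℂ) := by
  have hgen := isGeneralizedCharacter_starFn hM (hInv_hStar hs) (hLocal_hStar hB hmax hs hlam) χ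
  have hdeg : starFn p (hStar p P e lam) χ 1 = (χ : G → ℂ) 1 := by
    rw [starFn_apply_one hM hB hmax hs hχ, hl1, one_mul]
  have hirr := H14.isIrrCharacter_of_norm_one hgen (classInner_starFn_self hM hB hmax h1 hχ)
    (d := charDegree (χ : G → ℂ)) (H22.charDegree_pos χ) (by rw [hdeg, H22.irr_one_eq_charDegree])
  refine ⟨⟨_, hirr⟩, mem_of_star hM hB hmax hs (by rw [hl1]; exact one_ne_zero) hχ rfl, rfl, ?_⟩
  show ⌊(starFn p (hStar p P e lam) χ 1).re⌋₊ = _
  rw [hdeg]
  rfl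

/-! ### Sums over pairs for an inner fusion system -/

open Classical in
/-- A sum over the pairs of the block as a sum over `P`. -/
theorem sum_pairs_nilpotent (hB : IsPBlock M B) (hmax : IsMax p (eB M B) P e)
    (hin : InnerOnElements p P e) (Φ : G → kG → ℂ) (hΦ : HInv Φ)
    (h0 : ∀ u b, ¬ InBlk (eB M B) (Subgroup.zpowers u) b → Φ u b = 0) (bu : P → kG)
    (hbu : ∀ y : P, Le p (Subgroup.zpowers (y : G), bu y) (P, e)) :
    (Nat.card P : ℂ) *
        ∑ u ∈ Finset.univ.filter (fun u : G => ∃ j : ℕ, orderOf u = p ^ j), ∑ b ∈ Bls M u, Φ u b =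
      ∑ y : P, (Nat.card G : ℂ) *
        ((Nat.card (P ⊓ Subgroup.centralizer (Subgroup.zpowers (y : G) : Set G) : Subgroup G) : ℂ) /
          (Nat.card (Subgroup.centralizer (Subgroup.zpowers (y : G) : Set G)) : ℂ)) *
        Φ y (bu y) := by
  let Cu : G → Subgroup G := fun u => Subgroup.centralizer (Subgroup.zpowers u : Set G)
  let S : Finset (Σ _ : G, kG) :=
    (Finset.univ.filter (fun u : G => ∃ j : ℕ, orderOf u = p ^ j)).sigma fun u =>
      (Bls M u).filter fun b => InBlk (eB M B) (Subgroup.zpowers u) b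
  have hS : ∑ u ∈ Finset.univ.filter (fun u : G => ∃ j : ℕ, orderOf u = p ^ j),
      ∑ b ∈ Bls M u, Φ u b = ∑ q ∈ S, Φ q.1 q.2 := by
    rw [Finset.sum_sigma]
    exact Finset.sum_congr rfl fun u _ => (Finset.sum_filter_of_ne fun b _ hb => by
      by_contra h
      exact hb (h0 u b h)).symm
  have hbp : ∀ y : P, bu y ∈ Bls M (y : G) := fun y =>
    mem_Bls.2 ((hbu y).pair_left p hmax.1).2
  let pr : P × G → (Σ _ : G, kG) := fun q => ⟨q.2 * (q.1 : G) * q.2⁻¹, cj q.2 (bu q.1)⟩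
  have hmaps : ∀ q ∈ (Finset.univ : Finset (P × G)), pr q ∈ S := by
    intro q _
    simp only [S, pr, Finset.mem_sigma, Finset.mem_filter, Finset.mem_univ, true_and]
    refine ⟨?_, cj_mem_Bls (hbp q.1) q.2, ?_⟩
    · obtain ⟨j, hj⟩ := IsPGroup.iff_orderOf.1 hmax.1.1 q.1
      refine ⟨j, ?_⟩
      rw [show q.2 * (q.1 : G) * q.2⁻¹ = MulAut.conj q.2 (q.1 : G) from rfl, MulEquiv.orderOf_eq,
        Subgroup.orderOf_coe, hj]
    · rw [← cjS_zpowers]
      exact inBlk_cj (cidem_eB hB).fix ((Le.inBlk_iff p (hbu q.1) (cidem_eB hB)).1 hmax.2.1) q.2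
  have hCP : ∀ y : G, (Nat.card (Cu y) : ℂ) ≠ 0 := fun y =>
    Nat.cast_ne_zero.2 Nat.card_pos.ne'
  let w : P → ℂ := fun y =>
    (Nat.card (P ⊓ Cu (y : G) : Subgroup G) : ℂ) / (Nat.card (Cu (y : G)) : ℂ)
  -- each pair is hit `|P| / w` times
  have hfib : ∀ s ∈ S, ∑ q ∈ Finset.univ.filter (fun q : P × G => pr q = s), w q.1 =
      (Nat.card P : ℂ) := by
    rintro ⟨u, b⟩ hs
    simp only [S, Finset.mem_sigma, Finset.mem_filter, Finset.mem_univ, true_and] at hs
    obtain ⟨hu, hb, hbin⟩ := hs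
    obtain ⟨x0, hx0⟩ := exists_below hB hmax hu hb hbin
    have h1 := le_pull hx0
    set y0 : P := ⟨x0⁻¹ * u * x0, mem_of_le h1⟩
    have hy0 : (y0 : G) = x0⁻¹ * u * x0 := rfl
    have hb0 : bu y0 = cj x0⁻¹ b := le_unique p hmax.1 (hbu y0) h1
    have hfix : ∀ c ∈ Cu (y0 : G), cj c (bu y0) = bu y0 := fun c hc =>
      isFix_iff_cj.1 (mem_Bls.1 (hbp y0)).cidem.fix c hc
    have hconjP : ∀ π : P, ∀ y' : P, (π : G) * y' * (π : G)⁻¹ = y0 → cj (π : G) (bu y') = bu y0 := by
      intro π y' hπ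
      refine le_unique p hmax.1 ?_ (hbu y0)
      have h2 := (hbu y').cj p (π : G)
      simp only at h2
      rwa [cjS_zpowers, hπ, cjS_eq_self (Subgroup.le_normalizer π.2),
        (le_stab p hmax.1 π.2).2] at h2
    have hcC : ∀ c : Cu (y0 : G), (c : G)⁻¹ * y0 * c = y0 := fun c => by
      have hc := Subgroup.mem_centralizer_iff.1 c.2 (y0 : G) (Subgroup.mem_zpowers _)
      rw [mul_assoc, hc, inv_mul_cancel_left]
    have hmemC : ∀ c : G, c ∈ Cu (y0 : G) ↔ c * (y0 : G) = (y0 : G) * c := fun c => by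
      simp only [Cu]
      rw [centralizer_zpowers, Subgroup.mem_centralizer_singleton_iff]
    let fib := Finset.univ.filter (fun q : P × G => pr q = ⟨u, b⟩)
    -- points of the fibre
    have hmem : ∀ q : P × G, q ∈ fib ↔
        ((x0⁻¹ * q.2) * (q.1 : G) * (x0⁻¹ * q.2)⁻¹ = y0 ∧ cj (x0⁻¹ * q.2) (bu q.1) = bu y0) := by
      intro q
      rw [hb0, hy0]
      simp only [fib, Finset.mem_filter, Finset.mem_univ, true_and, pr, Sigma.mk.inj_iff,
        heq_eq_eq]
      constructor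
      · rintro ⟨h2, h3⟩
        exact ⟨by rw [← h2]; group, by rw [← h3, cj_cj]⟩
      · rintro ⟨h2, h3⟩
        refine ⟨?_, ?_⟩
        · calc q.2 * (q.1 : G) * q.2⁻¹
              = x0 * (x0⁻¹ * q.2 * (q.1 : G) * (x0⁻¹ * q.2)⁻¹) * x0⁻¹ := by group
            _ = u := by rw [h2]; group
        · have h4 := congrArg (cj x0) h3
          rwa [cj_cj, cj_cj, mul_inv_cancel_left, mul_inv_cancel, cj_one] at h4
    have hπ : ∀ q : fib, ∃ π : P, (π : G) * (q.1.1 : G) * (π : G)⁻¹ = y0 := by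
      rintro ⟨q, hq⟩
      obtain ⟨h2, h3⟩ := (hmem q).1 hq
      obtain ⟨π, hπ, he⟩ := hin (q.1 : G) q.1.2 (x0⁻¹ * q.2) (bu q.1) (hbu q.1)
        (by rw [h2, h3]; exact hbu y0)
      exact ⟨⟨π, hπ⟩, by rw [← h2]; exact he⟩
    choose π hπ using hπ
    have hc : ∀ q : fib, x0⁻¹ * q.1.2 * ((π q : P) : G)⁻¹ ∈ Cu (y0 : G) := fun q => by
      obtain ⟨h2, -⟩ := (hmem q.1).1 q.2
      rw [hmemC]
      have h5 : ((π q : P) : G)⁻¹ * y0 * (π q : P) = (q.1.1 : G) := by rw [← hπ q]; group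
      calc x0⁻¹ * q.1.2 * ((π q : P) : G)⁻¹ * y0
          = x0⁻¹ * q.1.2 * (((π q : P) : G)⁻¹ * y0 * (π q : P)) * ((π q : P) : G)⁻¹ := by group
        _ = x0⁻¹ * q.1.2 * (q.1.1 : G) * (x0⁻¹ * q.1.2)⁻¹ *
              (x0⁻¹ * q.1.2 * ((π q : P) : G)⁻¹) := by rw [h5]; group
        _ = y0 * (x0⁻¹ * q.1.2 * ((π q : P) : G)⁻¹) := by rw [h2]
    let Z : Cu (y0 : G) × P → fib := fun r =>
      ⟨(⟨(r.2 : G)⁻¹ * y0 * r.2, P.mul_mem (P.mul_mem (P.inv_mem r.2.2) y0.2) r.2.2⟩,
        x0 * (r.1 : G) * r.2), by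
        rw [hmem]
        refine ⟨?_, ?_⟩
        · show x0⁻¹ * (x0 * (r.1 : G) * r.2) * ((r.2 : G)⁻¹ * y0 * r.2) *
            (x0⁻¹ * (x0 * (r.1 : G) * r.2))⁻¹ = y0
          calc _ = (r.1 : G) * y0 * (r.1 : G)⁻¹ := by group
            _ = y0 := by
              conv_lhs => arg 1; arg 2; rw [← hcC r.1]
              group
        · show cj (x0⁻¹ * (x0 * (r.1 : G) * r.2)) _ = _
          rw [show x0⁻¹ * (x0 * (r.1 : G) * r.2) = (r.1 : G) * r.2 by group, ← cj_cj,
            hconjP r.2 _ (by group), hfix _ r.1.2]⟩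
    let D : Subgroup G := P ⊓ Cu (y0 : G)
    have hbij : Nat.card (Cu (y0 : G) × P) = Nat.card fib * Nat.card D := by
      rw [← Nat.card_prod]
      refine Nat.card_congr
        { toFun := fun r => (Z r, ⟨(r.2 : G) * ((π (Z r) : P) : G)⁻¹, ?_⟩)
          invFun := fun t => (⟨x0⁻¹ * t.1.1.2 * ((π t.1 : P) : G)⁻¹ * ((t.2 : G))⁻¹, ?_⟩,
            ⟨(t.2 : G) * (π t.1 : P), P.mul_mem t.2.2.1 (π t.1).2⟩)
          left_inv := fun r => ?_
          right_inv := fun t => ?_ }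
      · refine ⟨P.mul_mem r.2.2 (P.inv_mem (π (Z r)).2), ?_⟩
        have h2 : ((π (Z r) : P) : G) * ((r.2 : G)⁻¹ * y0 * r.2) * ((π (Z r) : P) : G)⁻¹ = y0 :=
          hπ (Z r)
        show (r.2 : G) * ((π (Z r) : P) : G)⁻¹ ∈ Cu (y0 : G)
        rw [hmemC]
        conv_lhs => arg 2; rw [← h2]
        group
      · exact Subgroup.mul_mem _ (hc t.1) (Subgroup.inv_mem _ t.2.2.2)
      · refine Prod.ext (Subtype.ext ?_) (Subtype.ext ?_)
        · show x0⁻¹ * (x0 * (r.1 : G) * r.2) * ((π (Z r) : P) : G)⁻¹ *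
            ((r.2 : G) * ((π (Z r) : P) : G)⁻¹)⁻¹ = r.1
          group
        · show (r.2 : G) * ((π (Z r) : P) : G)⁻¹ * (π (Z r) : P) = r.2
          group
      · have hZt : Z (⟨x0⁻¹ * t.1.1.2 * ((π t.1 : P) : G)⁻¹ * ((t.2 : G))⁻¹,
            Subgroup.mul_mem _ (hc t.1) (Subgroup.inv_mem _ t.2.2.2)⟩,
            ⟨(t.2 : G) * (π t.1 : P), P.mul_mem t.2.2.1 (π t.1).2⟩) = t.1 := by
          refine Subtype.ext (Prod.ext (Subtype.ext ?_) ?_)
          · show ((t.2 : G) * (π t.1 : P))⁻¹ * y0 * ((t.2 : G) * (π t.1 : P)) = t.1.1.1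
            have h3 : (t.2 : G)⁻¹ * y0 * t.2 = y0 := hcC ⟨t.2, t.2.2.2⟩
            calc _ = ((π t.1 : P) : G)⁻¹ * ((t.2 : G)⁻¹ * y0 * t.2) * (π t.1 : P) := by group
              _ = _ := by rw [h3, ← hπ t.1]; group
          · show x0 * (x0⁻¹ * t.1.1.2 * ((π t.1 : P) : G)⁻¹ * ((t.2 : G))⁻¹) *
              ((t.2 : G) * (π t.1 : P)) = t.1.1.2
            group
        refine Prod.ext hZt (Subtype.ext ?_)
        show (t.2 : G) * (π t.1 : P) * ((π (Z _) : P) : G)⁻¹ = t.2
        rw [hZt]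
        group
    have hw : ∀ q ∈ fib, w q.1 = w y0 := by
      intro q hq
      have hπq := hπ ⟨q, hq⟩
      set t := ((π ⟨q, hq⟩ : P) : G)
      have hz : cjS t (Subgroup.zpowers (q.1 : G)) = Subgroup.zpowers (y0 : G) := by
        rw [cjS_zpowers, hπq]
      have hC : cjS t (Cu (q.1 : G)) = Cu (y0 : G) := by
        simp only [Cu]; rw [cjS_centralizer, hz]
      have hCP' : cjS t (P ⊓ Cu (q.1 : G)) = P ⊓ Cu (y0 : G) := by
        rw [cjS_inf, hC, cjS_eq_self (Subgroup.le_normalizer (π ⟨q, hq⟩).2)]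
      simp only [w]
      rw [← card_cjS t (P ⊓ Cu (q.1 : G)), ← card_cjS t (Cu (q.1 : G)), hCP', hC]
    show ∑ q ∈ fib, w q.1 = _
    rw [Finset.sum_congr rfl hw, Finset.sum_const, nsmul_eq_mul]
    rw [Nat.card_prod, Nat.card_eq_finsetCard] at hbij
    have hbij' := congrArg (Nat.cast : ℕ → ℂ) hbij
    push_cast at hbij'
    simp only [w]
    rw [← mul_div_assoc, div_eq_iff (hCP _), ← hbij']
    ring
  rw [hS, Finset.mul_sum]
  calc ∑ q ∈ S, (Nat.card P : ℂ) * Φ q.1 q.2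
      = ∑ s ∈ S, ∑ q ∈ Finset.univ.filter (fun q : P × G => pr q = s), w q.1 * Φ s.1 s.2 := by
        exact Finset.sum_congr rfl fun s hs => by rw [← Finset.sum_mul, hfib s hs]
    _ = ∑ q : P × G, w q.1 * Φ (q.1 : G) (bu q.1) := by
        rw [← Finset.sum_fiberwise_of_maps_to hmaps fun q : P × G => w q.1 * Φ (q.1 : G) (bu q.1)]
        refine Finset.sum_congr rfl fun s _ => Finset.sum_congr rfl fun q hq => ?_
        rw [← (Finset.mem_filter.1 hq).2]
        simp only [pr]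
        rw [hΦ]
    _ = ∑ y : P, (Nat.card G : ℂ) * w y * Φ y (bu y) := by
        rw [Fintype.sum_prod_type]
        refine Finset.sum_congr rfl fun y _ => ?_
        simp only [Finset.sum_const, Finset.card_univ, nsmul_eq_mul, Nat.card_eq_fintype_card]
        ring

end H23
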