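import Cfsg.Agent.H23.NilpotentCount

/-!
# Nilpotent blocks: from the definition to the counting theorem
-/

set_option autoImplicit false
set_option linter.style.haveILetI false
set_option linter.unusedSectionVars false

open Cfsg
open scoped MonoidAlgebra

namespace H23

universe u

variable {G : Type u} [Group G] [Fintype G] {p : ℕ} [hp : Fact p.Prime] {M : Ideal AlgInt}
  [hMp : M.IsPrime] [CharP (H20.k M) p] [IsAlgClosed (H20.k M)]

theorem innerOnElements_of_nilpotent {B : Set (IrrCharacter G)} (hnil : IsNilpotentBlock p M B)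
    {P : Subgroup G} {e : MonoidAlgebra (H20.k M) G} (hmax : IsMax p (eB M B) P e) :
    InnerOnElements p P e := by
  obtain ⟨e', he', rfl⟩ := exists_of_isPair hmax.1
  have hm := isMaximalBrauerPair_of hnil.1 he' hmax
  have hF := pairFS_isBlockFS hm
  have h := (isNilpotentBlock_iff_inner hF).1 hnil
  intro y hy g b h1 h2
  have hmem : conjHom (Subgroup.zpowers y) g ∈
      pairHom p P (eG M (Subgroup.centralizer (P : Set G)) e') (Subgroup.zpowers y) :=
    ⟨Subgroup.zpowers_le.2 hy, g, fun u => rfl, b, h1, by rw [cjS_zpowers]; exact h2⟩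
  rw [← hom_eq_pairHom hF, h] at hmem
  obtain ⟨-, π, hπ, hπe⟩ := hmem
  exact ⟨π, hπ, (hπe ⟨y, Subgroup.mem_zpowers y⟩).symm⟩

/-- The counting theorem for a nilpotent block. -/
theorem exists_nilpotent_data (hM : IsPModular p M) {B : Set (IrrCharacter G)}
    (hnil : IsNilpotentBlock p M B) {P : Subgroup G} {e : MonoidAlgebra (H20.k M) G}
    (hmax : IsMax p (eB M B) P e) :
    ∃ χ₀ ∈ B, blockHeight p B (χ₀ : G → ℂ) = 0 ∧
      ∃ ψ : IrrCharacter P → IrrCharacter G, Function.Injective ψ ∧ Set.range ψ = B ∧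
        ∀ l : IrrCharacter P,
          charDegree (ψ l : G → ℂ) = charDegree (l : P → ℂ) * charDegree (χ₀ : G → ℂ) ∧
          ∀ g : G, ¬ p ∣ orderOf g →
            (ψ l : G → ℂ) g = (charDegree (l : P → ℂ) : ℂ) * (χ₀ : G → ℂ) g := by
  obtain ⟨χ₀, hχ₀, he⟩ := H22.exists_height_zero (p := p) (H20.block_nonempty hnil.1)
  have h0 : blockHeight p B (χ₀ : G → ℂ) = 0 := Nat.sub_eq_zero_of_le he.le
  exact ⟨χ₀, hχ₀, h0, nilpotent_main hM hnil.1 hmax (innerOnElements_of_nilpotent hnil hmax) hχ₀ h0⟩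

end H23
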