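import Cfsg.Agent.H23.FiniteAlg
import Cfsg.Agent.H23.Pairs
import Cfsg.Agent.H6.Basic

/-!
# Primitive idempotents fixed by `R × S`

`H23.exists_tr`: if the Brauer image at `R` vanishes, the idempotent is a relative trace from a
maximal subgroup of `R`. `H23.exists_coherent`: otherwise all its Brauer images lie in the
subpairs of one pair `(R, f)`.
-/

set_option autoImplicit false
set_option linter.unusedSectionVars false
set_option linter.style.haveILetI false

open scoped MonoidAlgebra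

namespace H23

variable {G : Type*} [Group G]

/-- A maximal subgroup of a `p`-group. -/
structure IsMaxSub (p : ℕ) (M R : Subgroup G) : Prop where
  le : M ≤ R
  norm : R ≤ Subgroup.normalizer (M : Set G)
  ne : ∃ x ∈ R, x ∉ M
  pow_mem : ∀ x ∈ R, x ^ p ∈ M
  cosets : ∀ x ∈ R, x ∉ M → ∀ r ∈ R, ∃ t < p, ∃ m ∈ M, r = x ^ t * m

theorem IsMaxSub.coset_unique {p : ℕ} [hp : Fact p.Prime] {M R : Subgroup G}
    (h : IsMaxSub p M R) {x : G} (hx : x ∈ R) (hxM : x ∉ M) {t t' : ℕ} (ht : t < p) (ht' : t' < p)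
    {m m' : G} (hm : m ∈ M) (hm' : m' ∈ M) (he : x ^ t * m = x ^ t' * m') : t = t' := by
  by_contra hne
  wlog hlt : t < t' generalizing t t' m m'
  · exact this ht' ht hm' hm he.symm (Ne.symm hne) (by omega)
  apply hxM
  have hd : x ^ (t' - t) ∈ M := by
    have : x ^ (t' - t) = m * m'⁻¹ := by
      apply mul_left_cancel (a := x ^ t)
      rw [← pow_add, Nat.add_sub_cancel' hlt.le, ← mul_assoc, he, mul_inv_cancel_right]
    rw [this]
    exact M.mul_mem hm (M.inv_mem hm')
  have hcop : Nat.Coprime p (t' - t) :=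
    hp.out.coprime_iff_not_dvd.2 fun hd => by
      have := Nat.le_of_dvd (by omega) hd
      omega
  have hb := Nat.gcd_eq_gcd_ab p (t' - t)
  rw [hcop] at hb
  have : x = (x ^ p) ^ (Nat.gcdA p (t' - t)) * (x ^ (t' - t)) ^ (Nat.gcdB p (t' - t)) := by
    rw [← zpow_natCast x p, ← zpow_natCast x (t' - t), ← zpow_mul, ← zpow_mul, ← zpow_add,
      show ((p : ℤ) * Nat.gcdA p (t' - t) + ((t' - t : ℕ) : ℤ) * Nat.gcdB p (t' - t)) = 1 by
        simpa using hb.symm, zpow_one]
  rw [this]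
  exact M.mul_mem (M.zpow_mem (h.pow_mem x hx) _) (M.zpow_mem hd _)

theorem exists_maxSub [Finite G] {p : ℕ} [hp : Fact p.Prime] {R H : Subgroup G}
    (hR : IsPGroup p R) (h : H < R) : ∃ M, IsMaxSub p M R ∧ H ≤ M := by
  have hne : H.subgroupOf R ≠ ⊤ := fun ht => h.not_ge (Subgroup.subgroupOf_eq_top.1 ht)
  obtain ⟨K, hK, hHK⟩ := (IsCoatomic.eq_top_or_exists_le_coatom (H.subgroupOf R)).resolve_left hne
  have hidx := H6.index_eq_prime_of_isCoatom hR hK
  haveI := H6.normal_of_index_eq_prime hR hidx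
  refine ⟨K.map R.subtype, ⟨Subgroup.map_subtype_le K, ?_, ?_, ?_, ?_⟩, ?_⟩
  · intro r hr
    rw [Subgroup.mem_normalizer_iff]
    intro g
    constructor
    · rintro ⟨k, hk, rfl⟩
      exact ⟨⟨r, hr⟩ * k * ⟨r, hr⟩⁻¹, Subgroup.Normal.conj_mem inferInstance k hk _, by simp⟩
    · rintro ⟨k, hk, hke⟩
      refine ⟨⟨r, hr⟩⁻¹ * k * ⟨r, hr⟩⁻¹⁻¹, Subgroup.Normal.conj_mem inferInstance k hk _, ?_⟩
      simp only [Subgroup.coe_subtype] at hke
      simp [hke, mul_assoc]
  · obtain ⟨z, hz⟩ : ∃ z : R, z ∉ K := by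
      by_contra hh
      push Not at hh
      exact hK.1 ((Subgroup.eq_top_iff' K).2 hh)
    refine ⟨z, z.2, ?_⟩
    rintro ⟨w, hw, hwz⟩
    exact hz (Subtype.ext hwz ▸ hw)
  · intro x hx
    refine ⟨⟨x, hx⟩ ^ p, ?_, by simp⟩
    rw [← hidx]
    exact K.pow_index_mem _
  · intro x hx hxM r hr
    have hcard : Nat.card (↥R ⧸ K) = p := hidx
    have hne1 : ((⟨x, hx⟩ : R) : ↥R ⧸ K) ≠ 1 := fun h1 =>
      hxM ⟨⟨x, hx⟩, (QuotientGroup.eq_one_iff _).1 h1, rfl⟩
    obtain ⟨n, hn⟩ := mem_powers_of_prime_card hcard hne1 (g' := ((⟨r, hr⟩ : R) : ↥R ⧸ K))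
    simp only at hn
    refine ⟨n % p, Nat.mod_lt _ hp.out.pos, (x ^ (n % p))⁻¹ * r, ?_, by group⟩
    refine ⟨(⟨x, hx⟩ ^ (n % p))⁻¹ * ⟨r, hr⟩, QuotientGroup.eq.1 ?_, by simp⟩
    rw [QuotientGroup.mk_pow, ← hn, ← hcard]
    exact pow_mod_natCard _ n
  · intro g hg
    exact ⟨⟨g, h.le hg⟩, hHK (Subgroup.mem_subgroupOf.2 hg), rfl⟩

variable {k : Type*} [Field k]

theorem isFix_sup {A B : Subgroup G} {a : k[G]} (hA : IsFix A a) (hB : IsFix B a) :
    IsFix (A ⊔ B) a := by
  rw [isFix_iff_cj] at hA hB ⊢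
  intro x hx
  rw [Subgroup.sup_eq_closure] at hx
  induction hx using Subgroup.closure_induction with
  | mem y hy => exact hy.elim (hA y) (hB y)
  | one => exact cj_one a
  | mul y z _ _ hy hz => rw [← cj_cj, hz, hy]
  | inv y _ hy => conv_lhs => rw [← hy, cj_inv_cancel]

theorem cj_comm_of_commute {x y : G} (h : Commute x y) (a : k[G]) :
    cj x (cj y a) = cj y (cj x a) := by rw [cj_cj, cj_cj, h.eq]

variable [Fintype G]

/-- A function as an element of `k[G]`. -/
noncomputable def ofFun (f : G → k) : k[G] :=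
  MonoidAlgebra.ofCoeff (Finsupp.equivFunOnFinite.symm f)

@[simp] theorem coeff_ofFun (f : G → k) (g : G) : (ofFun f).coeff g = f g := by simp [ofFun]

variable {p : ℕ} [Fact p.Prime] [CharP k p] [IsAlgClosed k]

theorem natCast_ne_zero_of_not_dvd {n : ℕ} (h : ¬ p ∣ n) : (n : k) ≠ 0 :=
  fun h0 => h ((CharP.cast_eq_zero_iff k p n).1 h0)

/-- The coefficientwise form of a relative trace. -/
theorem exists_orbit_tr {R S : Subgroup G} (hR : IsPGroup p R)
    (hS : S ≤ Subgroup.centralizer (R : Set G)) (hSp : ¬ p ∣ Nat.card S) {i : k[G]}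
    (hi : IsFix (R ⊔ S) i) (h0 : Br R i = 0) :
    ∃ (ι : Finset (Subgroup G)) (a : Subgroup G → k[G]),
      (∀ M ∈ ι, IsMaxSub p M R ∧ IsFix (M ⊔ S) (a M) ∧
        ∀ x ∈ R, x ∉ M → ∀ y ∈ R, y ∉ M →
          ∑ t ∈ Finset.range p, cj (x ^ t) (a M) = ∑ t ∈ Finset.range p, cj (y ^ t) (a M)) ∧
      ∀ x : Subgroup G → G, (∀ M ∈ ι, x M ∈ R ∧ x M ∉ M) →
        ∑ M ∈ ι, ∑ t ∈ Finset.range p, cj (x M ^ t) (a M) = i := by
  classical
  haveI := Fintype.ofFinite (Subgroup G)
  have hiR : ∀ r ∈ R, ∀ g, i.coeff (r * g * r⁻¹) = i.coeff g := hi.mono le_sup_left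
  have hnC : ∀ g, i.coeff g ≠ 0 → g ∉ Subgroup.centralizer (R : Set G) := fun g hg hgC =>
    hg (by rw [← coeff_Br_of_mem i hgC, h0]; simp)
  let P : G → Subgroup G → Prop := fun g M =>
    IsMaxSub p M R ∧ ∀ y ∈ R, y * g = g * y → y ∈ M
  have hPinv : ∀ r ∈ R, ∀ g M, P (r * g * r⁻¹) M ↔ P g M := by
    intro r hr g M
    refine and_congr_right fun hM => ⟨fun h y hy hyg => ?_, fun h y hy hyg => ?_⟩
    · have h1 := h (r * y * r⁻¹) (R.mul_mem (R.mul_mem hr hy) (R.inv_mem hr)) (by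
        calc r * y * r⁻¹ * (r * g * r⁻¹) = r * (y * g) * r⁻¹ := by group
          _ = r * g * r⁻¹ * (r * y * r⁻¹) := by rw [hyg]; group)
      exact ((Subgroup.mem_normalizer_iff.1 (hM.norm hr)) y).2 h1
    · have h1 := h (r⁻¹ * y * r) (R.mul_mem (R.mul_mem (R.inv_mem hr) hy) hr) (by
        calc r⁻¹ * y * r * g = r⁻¹ * (y * (r * g * r⁻¹)) * r := by group
          _ = g * (r⁻¹ * y * r) := by rw [hyg]; group)
      exact ((Subgroup.mem_normalizer_iff''.1 (hM.norm hr)) y).2 h1
  let m : G → Subgroup G := fun g => Classical.epsilon (P g)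
  have hminv : ∀ r ∈ R, ∀ g, m (r * g * r⁻¹) = m g := fun r hr g => by
    simp only [m]
    exact congrArg _ (funext fun M => propext (hPinv r hr g M))
  have hm : ∀ g, i.coeff g ≠ 0 → P g (m g) := by
    intro g hg
    obtain ⟨M, hM, hle⟩ := exists_maxSub hR (H := R ⊓ Subgroup.centralizer ({g} : Set G))
      (lt_of_le_not_ge inf_le_left fun hle => hnC g hg (Subgroup.mem_centralizer_iff.2 fun y hy =>
        (mem_centralizer_singleton.1 (hle hy).2).symm))
    exact Classical.epsilon_spec (p := P g)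
      ⟨M, hM, fun y hy hyg => hle ⟨hy, mem_centralizer_singleton.2 hyg.symm⟩⟩
  let rep : G → G := fun g => Classical.epsilon fun h => ∃ r ∈ R, h = r * g * r⁻¹
  have hrinv : ∀ r ∈ R, ∀ g, rep (r * g * r⁻¹) = rep g := fun r hr g => by
    simp only [rep]
    refine congrArg _ (funext fun h => propext ⟨?_, ?_⟩)
    · rintro ⟨s, hs, rfl⟩
      exact ⟨s * r, R.mul_mem hs hr, by group⟩
    · rintro ⟨s, hs, rfl⟩
      exact ⟨s * r⁻¹, R.mul_mem hs (R.inv_mem hr), by group⟩
  have hrep : ∀ g, ∃ r ∈ R, rep g = r * g * r⁻¹ := fun g =>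
    Classical.epsilon_spec (p := fun h => ∃ r ∈ R, h = r * g * r⁻¹) ⟨g, 1, R.one_mem, by group⟩
  let a' : Subgroup G → k[G] := fun M => ofFun fun g =>
    if i.coeff g ≠ 0 ∧ m g = M ∧ ∃ y ∈ M, g = y * rep g * y⁻¹ then i.coeff g else 0
  have hfixM : ∀ M, IsMaxSub p M R → IsFix M (a' M) := by
    intro M hM y hy g
    have hyR := hM.le hy
    simp only [a', coeff_ofFun, hminv y hyR, hrinv y hyR, hiR y hyR]
    refine if_congr (and_congr_right fun _ => and_congr_right fun _ => ⟨?_, ?_⟩) rfl rfl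
    · rintro ⟨z, hz, he⟩
      refine ⟨y⁻¹ * z, M.mul_mem (M.inv_mem hy) hz, ?_⟩
      calc g = y⁻¹ * (y * g * y⁻¹) * y := by group
        _ = y⁻¹ * z * rep g * (y⁻¹ * z)⁻¹ := by rw [he]; group
    · rintro ⟨z, hz, he⟩
      refine ⟨y * z, M.mul_mem hy hz, ?_⟩
      calc y * g * y⁻¹ = y * (z * rep g * z⁻¹) * y⁻¹ := by rw [← he]
        _ = y * z * rep g * (y * z)⁻¹ := by group
  have htr : ∀ M, IsMaxSub p M R → ∀ x ∈ R, x ∉ M →
      ∑ t ∈ Finset.range p, cj (x ^ t) (a' M) =
        ofFun fun g => if i.coeff g ≠ 0 ∧ m g = M then i.coeff g else 0 := by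
    intro M hM x hx hxM
    ext g
    simp only [MonoidAlgebra.coeff_sum, Finsupp.finsetSum_apply, coeff_cj, a', coeff_ofFun]
    have key : ∀ t : ℕ, (x ^ t)⁻¹ * g * x ^ t = (x ^ t)⁻¹ * g * ((x ^ t)⁻¹)⁻¹ := by simp
    simp only [key, hminv _ (R.inv_mem (R.pow_mem hx _)), hrinv _ (R.inv_mem (R.pow_mem hx _)),
      hiR _ (R.inv_mem (R.pow_mem hx _))]
    by_cases hg : i.coeff g ≠ 0 ∧ m g = M
    · rw [if_pos hg]
      obtain ⟨r, hr, hre⟩ := hrep g
      obtain ⟨t, ht, z, hz, hrz⟩ := hM.cosets x hx hxM r⁻¹ (R.inv_mem hr)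
      have hge : g = x ^ t * z * rep g * (x ^ t * z)⁻¹ := by rw [← hrz, hre]; group
      have he : (x ^ t)⁻¹ * g * ((x ^ t)⁻¹)⁻¹ = z * rep g * z⁻¹ := by
        calc (x ^ t)⁻¹ * g * ((x ^ t)⁻¹)⁻¹
            = (x ^ t)⁻¹ * (x ^ t * z * rep g * (x ^ t * z)⁻¹) * x ^ t := by rw [← hge, inv_inv]
          _ = z * rep g * z⁻¹ := by group
      rw [Finset.sum_eq_single t, if_pos ⟨hg.1, hg.2, z, hz, he⟩]
      · intro t' ht' hne
        refine if_neg ?_
        rintro ⟨-, -, y, hy, hye⟩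
        have hfixy : (x ^ t' * y) * rep g * (x ^ t' * y)⁻¹ = g := by
          calc (x ^ t' * y) * rep g * (x ^ t' * y)⁻¹
              = x ^ t' * (y * rep g * y⁻¹) * (x ^ t')⁻¹ := by group
            _ = g := by rw [← hye]; group
        have hstab : (x ^ t' * y) * (x ^ t * z)⁻¹ ∈ M := by
          refine (hg.2 ▸ (hm g hg.1)).2 _ (R.mul_mem (R.mul_mem (R.pow_mem hx _) (hM.le hy))
            (R.inv_mem (R.mul_mem (R.pow_mem hx _) (hM.le hz)))) ?_
          calc (x ^ t' * y) * (x ^ t * z)⁻¹ * g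
              = (x ^ t' * y) * (x ^ t * z)⁻¹ * (x ^ t * z * rep g * (x ^ t * z)⁻¹) := by rw [← hge]
            _ = (x ^ t' * y) * rep g * (x ^ t' * y)⁻¹ * ((x ^ t' * y) * (x ^ t * z)⁻¹) := by group
            _ = _ := by rw [hfixy]
        obtain ⟨w, hw, hwe⟩ : ∃ w ∈ M, x ^ t' * y = x ^ t * w := by
          refine ⟨(x ^ t)⁻¹ * (x ^ t' * y * (x ^ t * z)⁻¹) * x ^ t * z, M.mul_mem ?_ hz, by group⟩
          exact (Subgroup.mem_normalizer_iff''.1 (hM.norm (R.pow_mem hx t)) _).1 hstab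
        exact hne (hM.coset_unique hx hxM (Finset.mem_range.1 ht') ht hy hw hwe)
      · exact fun h => absurd (Finset.mem_range.2 ht) h
    · rw [if_neg hg]
      exact Finset.sum_eq_zero fun t _ => if_neg fun h => hg ⟨h.1, h.2.1⟩
  haveI := Fintype.ofFinite S
  set c : k := (Fintype.card S : k)⁻¹
  let a : Subgroup G → k[G] := fun M => c • ∑ s : S, cj (s : G) (a' M)
  have hcomm : ∀ (s : S) (r : G), r ∈ R → Commute (s : G) r := fun s r hr =>
    ((Subgroup.mem_centralizer_iff.1 (hS s.2)) r hr).symm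
  have hafix : ∀ M, IsMaxSub p M R → IsFix (M ⊔ S) (a M) := by
    intro M hM
    refine isFix_sup (isFix_iff_cj.2 fun y hy => ?_) (isFix_iff_cj.2 fun y hy => ?_)
    · simp only [a, map_smul, map_sum]
      congr 1
      refine Finset.sum_congr rfl fun s _ => ?_
      rw [cj_comm_of_commute (hcomm s y (hM.le hy)).symm, isFix_iff_cj.1 (hfixM M hM) y hy]
    · simp only [a, map_smul, map_sum, cj_cj]
      congr 1
      exact Fintype.sum_equiv (Equiv.mulLeft (⟨y, hy⟩ : S)) _ _ fun s => rfl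
  let iM : Subgroup G → k[G] := fun M => c • ∑ s : S,
    cj (s : G) (ofFun fun g => if i.coeff g ≠ 0 ∧ m g = M then i.coeff g else 0)
  have hatr : ∀ M, IsMaxSub p M R → ∀ x ∈ R, x ∉ M →
      ∑ t ∈ Finset.range p, cj (x ^ t) (a M) = iM M := by
    intro M hM x hx hxM
    simp only [a, iM, map_smul, map_sum, ← Finset.smul_sum]
    congr 1
    rw [Finset.sum_comm]
    refine Finset.sum_congr rfl fun s _ => ?_
    rw [← htr M hM x hx hxM, map_sum]
    exact Finset.sum_congr rfl fun t _ => cj_comm_of_commute (hcomm s _ (R.pow_mem hx t)).symm _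
  refine ⟨Finset.univ.filter fun M => IsMaxSub p M R, a, fun M hM => ?_, fun x hx => ?_⟩
  · have hM' := (Finset.mem_filter.1 hM).2
    exact ⟨hM', hafix M hM', fun x hx hxM y hy hyM => by
      rw [hatr M hM' x hx hxM, hatr M hM' y hy hyM]⟩
  rw [Finset.sum_congr rfl fun M hM => hatr M (Finset.mem_filter.1 hM).2 (x M) (hx M hM).1
    (hx M hM).2]
  simp only [iM, ← Finset.smul_sum]
  rw [Finset.sum_comm]
  have hsum : ∑ M ∈ Finset.univ.filter (fun M => IsMaxSub p M R),
      ofFun (fun g => if i.coeff g ≠ 0 ∧ m g = M then i.coeff g else 0) = i := by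
    ext g
    simp only [MonoidAlgebra.coeff_sum, Finsupp.finsetSum_apply, coeff_ofFun]
    by_cases hg : i.coeff g = 0
    · simp [hg]
    · rw [Finset.sum_eq_single (m g) (fun M _ hne => if_neg fun h => hne h.2.symm)
        (fun h => (h (Finset.mem_filter.2 ⟨Finset.mem_univ (m g), (hm g hg).1⟩)).elim), if_pos ⟨hg, rfl⟩]
  simp only [← map_sum, hsum]
  rw [Finset.sum_congr rfl fun (s : S) _ => isFix_iff_cj.1 hi (s : G) (Subgroup.mem_sup_right s.2),
    Finset.sum_const, Finset.card_univ, ← Nat.cast_smul_eq_nsmul k, smul_smul,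
    inv_mul_cancel₀ (natCast_ne_zero_of_not_dvd (p := p) (by rwa [← Nat.card_eq_fintype_card])),
    one_smul]

/-- A primitive idempotent with vanishing Brauer image is a relative trace. -/
theorem exists_tr {R S : Subgroup G} (hR : IsPGroup p R)
    (hS : S ≤ Subgroup.centralizer (R : Set G)) (hSp : ¬ p ∣ Nat.card S)
    {i : fixSub k (R ⊔ S)} (hi : IsPrim i) (h0 : Br R (i : k[G]) = 0) :
    ∃ (M : Subgroup G) (a : k[G]), IsMaxSub p M R ∧ IsFix (M ⊔ S) a ∧
      (i : k[G]) * a * i = a ∧ ∀ x ∈ R, x ∉ M → ∑ t ∈ Finset.range p, cj (x ^ t) a = i := by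
  classical
  obtain ⟨ι, a, ha, hsum⟩ := exists_orbit_tr hR hS hSp i.2 h0
  have hex : ∀ M : Subgroup G, ∃ x, (∃ y ∈ R, y ∉ M) → x ∈ R ∧ x ∉ M := fun M => by
    by_cases h : ∃ y ∈ R, y ∉ M
    · obtain ⟨y, hy⟩ := h
      exact ⟨y, fun _ => hy⟩
    · exact ⟨1, fun h' => absurd h' h⟩
  choose x hx using hex
  have hall : ∀ M ∈ ι, ∃ y ∈ R, y ∉ M := fun M hM => (ha M hM).1.ne
  have hfixR : ∀ r ∈ R, cj r (i : k[G]) = i := fun r hr =>
    isFix_iff_cj.1 i.2 r (Subgroup.mem_sup_left hr)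
  have hT : ∀ M ∈ ι, IsFix (R ⊔ S) (∑ t ∈ Finset.range p, cj (x M ^ t) (a M)) := by
    intro M hM
    obtain ⟨hMs, hfix, hind⟩ := ha M hM
    obtain ⟨hxR, hxM⟩ := hx M (hall M hM)
    refine isFix_sup (isFix_iff_cj.2 fun r hr => ?_) (isFix_iff_cj.2 fun s hs => ?_)
    · have hper : cj (x M) (∑ t ∈ Finset.range p, cj (x M ^ t) (a M)) =
          ∑ t ∈ Finset.range p, cj (x M ^ t) (a M) := by
        have hp0 : cj (x M ^ p) (a M) = a M :=
          isFix_iff_cj.1 hfix _ (Subgroup.mem_sup_left (hMs.pow_mem _ hxR))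
        have h1 := Finset.sum_range_succ' (fun t => cj (x M ^ t) (a M)) p
        rw [Finset.sum_range_succ, hp0, pow_zero, cj_one] at h1
        rw [map_sum]
        refine Eq.trans ?_ (add_right_cancel h1).symm
        exact Finset.sum_congr rfl fun t _ => by rw [cj_cj, ← pow_succ']
      obtain ⟨t, -, y, hy, rfl⟩ := hMs.cosets _ hxR hxM r hr
      have hy0 : cj y (∑ t ∈ Finset.range p, cj (x M ^ t) (a M)) =
          ∑ t ∈ Finset.range p, cj (x M ^ t) (a M) := by
        rw [map_sum]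
        refine Finset.sum_congr rfl fun t _ => ?_
        have hy' : (x M ^ t)⁻¹ * y * x M ^ t ∈ M :=
          (Subgroup.mem_normalizer_iff''.1 (hMs.norm (R.pow_mem hxR t)) y).1 hy
        conv_rhs => rw [← isFix_iff_cj.1 hfix _ (Subgroup.mem_sup_left hy')]
        rw [cj_cj, cj_cj]
        congr 2
        group
      rw [← cj_cj, hy0]
      clear hr hy0
      induction t with
      | zero => simp
      | succ t ih => rw [pow_succ, ← cj_cj, hper, ih]
    · rw [map_sum]
      refine Finset.sum_congr rfl fun t _ => ?_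
      rw [cj_comm_of_commute (((Subgroup.mem_centralizer_iff.1 (hS hs)) _ (R.pow_mem hxR t))).symm,
        isFix_iff_cj.1 hfix s (Subgroup.mem_sup_right hs)]
  let X : Subgroup G → fixSub k (R ⊔ S) := fun M =>
    if h : M ∈ ι then ⟨_, hT M h⟩ else 0
  have hX : ∀ M ∈ ι, ((X M : fixSub k (R ⊔ S)) : k[G]) =
      ∑ t ∈ Finset.range p, cj (x M ^ t) (a M) := fun M hM => by simp [X, hM]
  have hsumX : ∑ M ∈ ι, i * X M * i = i := by
    refine Subtype.ext ?_
    simp only [AddSubmonoidClass.coe_finsetSum, MulMemClass.coe_mul]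
    rw [Finset.sum_congr rfl fun M hM => by rw [hX M hM], ← Finset.sum_mul, ← Finset.mul_sum,
      hsum x fun M hM => hx M (hall M hM), ← Subalgebra.coe_mul, ← Subalgebra.coe_mul, hi.idem,
      hi.idem]
  obtain ⟨M, hM, hne⟩ := hi.exists_of_sum (k := k) ι X hsumX
  obtain ⟨y, hy1, hy2, hy, -⟩ := hi.ev_ne_zero_inv (k := k)
    (by rw [← mul_assoc, ← mul_assoc, hi.idem]) (by rw [mul_assoc, hi.idem]) hne
  obtain ⟨hMs, hfix, hind⟩ := ha M hM
  have hiM : IsFix (M ⊔ S) (i : k[G]) := IsFix.mono i.2 (sup_le_sup_right hMs.le S)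
  have hyM : IsFix (M ⊔ S) (y : k[G]) := IsFix.mono y.2 (sup_le_sup_right hMs.le S)
  refine ⟨M, (i : k[G]) * a M * i * y, hMs, ((hiM.mul hfix).mul hiM).mul hyM, ?_,
    fun z hz hzM => ?_⟩
  · have h1 : (i : k[G]) * i = i := congrArg Subtype.val hi.idem
    have h2 : (y : k[G]) * i = y := congrArg Subtype.val hy2
    simp only [← mul_assoc, h1]
    rw [mul_assoc _ (y : k[G]), h2]
  · have hyfix : ∀ t : ℕ, cj (z ^ t) (y : k[G]) = y := fun t =>
      isFix_iff_cj.1 y.2 _ (Subgroup.mem_sup_left (R.pow_mem hz t))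
    simp only [map_mul, hfixR _ (R.pow_mem hz _), hyfix, ← Finset.sum_mul, ← Finset.mul_sum]
    rw [hind z hz hzM _ (hx M (hall M hM)).1 (hx M (hall M hM)).2, ← hX M hM]
    exact congrArg Subtype.val hy

/-- The Brauer images of a primitive idempotent lie in the subpairs of one pair. -/
theorem exists_coherent {R S : Subgroup G} (hR : IsPGroup p R)
    (hS : S ≤ Subgroup.centralizer (R : Set G)) {i : fixSub k (R ⊔ S)} (hi : IsPrim i)
    (h0 : Br R (i : k[G]) ≠ 0) :
    ∃ f, IsPair p R f ∧ ∀ Q ≤ R, ∀ b, Le p (Q, b) (R, f) → Br Q (i : k[G]) * b = Br Q (i : k[G]) := by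
  classical
  have hiR : IsFix R (i : k[G]) := IsFix.mono i.2 le_sup_left
  have hii : (i : k[G]) * i = i := congrArg Subtype.val hi.idem
  obtain ⟨Sb, hSb, hsumb⟩ := exists_blocks (K := k) (Subgroup.centralizer (R : Set G))
  have hbfix : ∀ b ∈ Sb, IsFix (R ⊔ S) b := fun b hb => by
    refine isFix_sup (isFix_iff_cj.2 fun r hr => ?_) (((hSb b).1 hb).cidem.fix.mono hS)
    ext g
    rw [coeff_cj]
    by_cases hg : g ∈ Subgroup.centralizer (R : Set G)
    · congr 1
      rw [mul_assoc, ← Subgroup.mem_centralizer_iff.1 hg r hr, inv_mul_cancel_left]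
    · rw [((hSb b).1 hb).cidem.supp g hg, ((hSb b).1 hb).cidem.supp]
      exact fun h => hg (by
        have := (conj_mem_centralizer_iff (Subgroup.le_normalizer hr) _).2 h
        simpa [mul_assoc] using this)
  let X : k[G] → fixSub k (R ⊔ S) := fun b => if h : b ∈ Sb then ⟨b, hbfix b h⟩ else 0
  have hX : ∀ b ∈ Sb, ((X b : fixSub k (R ⊔ S)) : k[G]) = b := fun b hb => by simp [X, hb]
  have hsumX : ∑ b ∈ Sb, i * X b * i = i := by
    refine Subtype.ext ?_
    simp only [AddSubmonoidClass.coe_finsetSum, MulMemClass.coe_mul]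
    rw [Finset.sum_congr rfl fun b hb => by rw [hX b hb], ← Finset.sum_mul, ← Finset.mul_sum,
      hsumb, mul_one, hii]
  obtain ⟨f, hf, hne⟩ := hi.exists_of_sum (k := k) Sb X hsumX
  obtain ⟨y, -, -, hy, -⟩ := hi.ev_ne_zero_inv (k := k)
    (by rw [← mul_assoc, ← mul_assoc, hi.idem]) (by rw [mul_assoc, hi.idem]) hne
  have hfb := (hSb f).1 hf
  have hpair : IsPair p R f := ⟨hR, hfb⟩
  have hyR : IsFix R (y : k[G]) := IsFix.mono y.2 le_sup_left
  have hfR : IsFix R f := (hbfix f hf).mono le_sup_left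
  have hBf : Br R f = f := Br_eq_self hfb.cidem.supp
  have hbase : Br R (i : k[G]) * f = Br R (i : k[G]) := by
    have h1 : (i : k[G]) * f * i * y = i := by
      have := congrArg Subtype.val hy
      simpa [hX f hf] using this
    have h2 := congrArg (Br R) h1
    rw [Br_mul hR ((hiR.mul hfR).mul hiR) hyR, Br_mul hR (hiR.mul hfR) hiR, Br_mul hR hiR hfR,
      hBf] at h2
    have hc : Br R (i : k[G]) * f = f * Br R (i : k[G]) :=
      (CIdem.comm hfb.cidem.fix hfb.cidem.supp (supp_Br R _)).symm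
    rw [hc] at h2 ⊢
    conv_rhs => rw [← h2]
    conv_lhs => rw [← h2]
    simp only [← mul_assoc, hfb.cidem.idem]
  refine ⟨f, hpair, ?_⟩
  intro Q
  induction Q using WellFoundedGT.induction with
  | _ Q ih =>
    intro hQR b hb
    rcases eq_or_lt_of_le hQR with heq | hlt
    · subst heq
      obtain rfl : b = f := congrArg Prod.snd (hb.eq_of_eq p rfl)
      exact hbase
    have hQp : IsPGroup p Q := hR.to_le hQR
    have hbp := (hb.pair_left p hpair).2
    set bi := Br Q (i : k[G]) with hbi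
    set x := bi - bi * b with hx
    set N := R ⊓ Subgroup.normalizer (Q : Set G) with hN
    have hcomm : b * bi = bi * b :=
      CIdem.comm hbp.cidem.fix hbp.cidem.supp (supp_Br Q _)
    have hbifix : IsFix (N ⊔ S) bi := by
      refine (isFix_Br i.2).mono (sup_le (le_inf (inf_le_left.trans le_sup_left) inf_le_right)
        (le_inf le_sup_right fun s hs => ?_))
      exact Subgroup.centralizer_le_normalizer _ (centralizer_anti hQR (hS hs))
    -- above `Q` the image dies
    have hup : ∀ T, Q < T → T ≤ N → IsFix T b ∧ Br T x = 0 := by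
      intro T hQT hTN
      obtain ⟨bT, hbT⟩ := exists_le p hpair (le_trans hTN inf_le_left)
      obtain ⟨b0, hb0⟩ := exists_nsub p (hbT.pair_left p hpair) hQT.le (hTN.trans inf_le_right)
      rw [le_unique p hpair (Relation.ReflTransGen.head hb0 hbT) hb] at hb0
      have hT := ih T hQT (le_trans hTN inf_le_left) bT hbT
      have hTp : IsPGroup p T := hR.to_le (le_trans hTN inf_le_left)
      have hbiT : IsFix T bi := hbifix.mono (hTN.trans le_sup_left)
      refine ⟨hb0.fix, ?_⟩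
      have hbB : bT * Br T b = bT := hb0.mul
      have hh : Br T (bi * b) = Br T bi := by
        rw [Br_mul hTp hbiT hb0.fix, hbi, Br_Br hQT.le, ← hT, mul_assoc, hbB]
      simp only [hx, Br, map_sub] at hh ⊢
      rw [hh, sub_self]
    have hbN : IsFix N b := by
      rcases eq_or_lt_of_le (le_inf hQR Subgroup.le_normalizer : Q ≤ N) with heq | hlt'
      · exact absurd heq (lt_inf_normalizer hR hlt).ne
      · exact (hup N hlt' le_rfl).1
    have hbS : IsFix S b := hbp.cidem.fix.mono (hS.trans (centralizer_anti hQR))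
    have hxN : IsFix (N ⊔ S) x :=
      ((fixSub k (N ⊔ S)).sub_mem hbifix (hbifix.mul (isFix_sup hbN hbS)) :)
    have hxC : Supp (Subgroup.centralizer (Q : Set G)) x :=
      (supp_Br Q _).sub ((supp_Br Q _).mul hbp.cidem.supp)
    have hstab : ∀ g, x.coeff g ≠ 0 → R ⊓ Subgroup.centralizer ({g} : Set G) = Q := by
      intro g hg
      have hgC : g ∈ Subgroup.centralizer (Q : Set G) := by
        by_contra h
        exact hg (hxC g h)
      have hQle : Q ≤ R ⊓ Subgroup.centralizer ({g} : Set G) :=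
        le_inf hQR (le_centralizer_singleton hgC)
      by_contra hne
      have hlt2 := lt_inf_normalizer (hR.to_le inf_le_left)
        (lt_of_le_of_ne hQle (Ne.symm hne))
      set T := R ⊓ Subgroup.centralizer ({g} : Set G) ⊓ Subgroup.normalizer (Q : Set G)
      have h2 := (hup T hlt2 (inf_le_inf_right _ inf_le_left)).2
      apply hg
      rw [← coeff_Br_of_mem x (P := T) (Subgroup.mem_centralizer_iff.2 fun y hy =>
        (mem_centralizer_singleton.1 hy.1.2).symm), h2]
      simp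
    let z : k[G] := ofFun fun g =>
      if h : ∃ r ∈ R, x.coeff (r * g * r⁻¹) ≠ 0 then x.coeff (h.choose * g * h.choose⁻¹) else 0
    have hz_eq : ∀ g r, r ∈ R → x.coeff (r * g * r⁻¹) ≠ 0 → z.coeff g = x.coeff (r * g * r⁻¹) := by
      intro g r hr hne
      have h : ∃ r ∈ R, x.coeff (r * g * r⁻¹) ≠ 0 := ⟨r, hr, hne⟩
      simp only [z, coeff_ofFun, dif_pos h]
      obtain ⟨hr', hne'⟩ := h.choose_spec
      set r' := h.choose
      have hw : r' * r⁻¹ ∈ N := by
        refine ⟨R.mul_mem hr' (R.inv_mem hr), mem_normalizer_of_cjS_eq ?_⟩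
        conv_lhs => rw [← hstab _ hne]
        rw [← hstab _ hne']
        ext y
        simp only [mem_cjS, Subgroup.mem_inf, mem_centralizer_singleton]
        refine and_congr ⟨fun h1 => ?_, fun h1 => R.mul_mem (R.mul_mem (R.inv_mem ?_) h1) ?_⟩ ?_
        · have := R.mul_mem (R.mul_mem (R.mul_mem hr' (R.inv_mem hr)) h1)
            (R.inv_mem (R.mul_mem hr' (R.inv_mem hr)))
          simpa [mul_assoc] using this
        · exact R.mul_mem hr' (R.inv_mem hr)
        · exact R.mul_mem hr' (R.inv_mem hr)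
        constructor
        · intro h1
          calc r' * g * r'⁻¹ * y = r' * r⁻¹ * (r * g * r⁻¹ * ((r' * r⁻¹)⁻¹ * y * (r' * r⁻¹))) *
                (r' * r⁻¹)⁻¹ := by group
            _ = y * (r' * g * r'⁻¹) := by rw [h1]; group
        · intro h1
          calc r * g * r⁻¹ * ((r' * r⁻¹)⁻¹ * y * (r' * r⁻¹))
              = (r' * r⁻¹)⁻¹ * (r' * g * r'⁻¹ * y) * (r' * r⁻¹) := by group
            _ = _ := by rw [h1]; group
      have := hxN (r' * r⁻¹) (Subgroup.mem_sup_left hw) (r * g * r⁻¹)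
      rw [← this]
      congr 1
      group
    have hz0 : ∀ g, (∀ r ∈ R, x.coeff (r * g * r⁻¹) = 0) → z.coeff g = 0 := fun g h => by
      simp only [z, coeff_ofFun]
      exact dif_neg fun ⟨r, hr, hne⟩ => hne (h r hr)
    have hzfix : IsFix (R ⊔ S) z := by
      refine isFix_sup (fun y hy g => ?_) (fun s hs g => ?_)
      · by_cases h : ∃ r ∈ R, x.coeff (r * g * r⁻¹) ≠ 0
        · obtain ⟨r, hr, hne⟩ := h
          have he : r * y⁻¹ * (y * g * y⁻¹) * (r * y⁻¹)⁻¹ = r * g * r⁻¹ := by group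
          rw [hz_eq g r hr hne, hz_eq _ (r * y⁻¹) (R.mul_mem hr (R.inv_mem hy)) (by rwa [he]), he]
        · push Not at h
          rw [hz0 g h, hz0]
          intro r hr
          rw [show r * (y * g * y⁻¹) * r⁻¹ = r * y * g * (r * y)⁻¹ by group]
          exact h _ (R.mul_mem hr hy)
      · have hconj : ∀ r ∈ R, x.coeff (r * (s * g * s⁻¹) * r⁻¹) = x.coeff (r * g * r⁻¹) := by
          intro r hr
          have hc : r * s = s * r := Subgroup.mem_centralizer_iff.1 (hS hs) r hr
          rw [show r * (s * g * s⁻¹) * r⁻¹ = r * s * g * (r * s)⁻¹ by group, hc,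
            show s * r * g * (s * r)⁻¹ = s * (r * g * r⁻¹) * s⁻¹ by group]
          exact hxN s (Subgroup.mem_sup_right hs) _
        by_cases h : ∃ r ∈ R, x.coeff (r * g * r⁻¹) ≠ 0
        · obtain ⟨r, hr, hne⟩ := h
          rw [hz_eq g r hr hne, hz_eq _ r hr (by rwa [hconj r hr]), hconj r hr]
        · push Not at h
          rw [hz0 g h, hz0]
          intro r hr
          rw [hconj r hr]
          exact h r hr
    have hBz : Br Q z = x := by
      ext g
      by_cases hg : g ∈ Subgroup.centralizer (Q : Set G)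
      · rw [coeff_Br_of_mem z hg]
        by_cases h : ∃ r ∈ R, x.coeff (r * g * r⁻¹) ≠ 0
        · obtain ⟨r, hr, hne⟩ := h
          have hsub : cjS r Q ≤ Q := fun y hy => by
            rw [mem_cjS] at hy
            rw [← hstab _ hne]
            refine ⟨?_, mem_centralizer_singleton.2 ?_⟩
            · have := R.mul_mem (R.mul_mem hr (hQR hy)) (R.inv_mem hr)
              simpa [mul_assoc] using this
            · have hyg := Subgroup.mem_centralizer_iff.1 hg _ hy
              calc r * g * r⁻¹ * y = r * (g * (r⁻¹ * y * r)) * r⁻¹ := by group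
                _ = y * (r * g * r⁻¹) := by rw [← hyg]; group
          have hrN : r ∈ N := ⟨hr, mem_normalizer_of_cjS_eq
            (Subgroup.eq_of_le_of_card_ge hsub (card_cjS r Q).ge)⟩
          rw [hz_eq g r hr hne, hxN r (Subgroup.mem_sup_left hrN) g]
        · push Not at h
          rw [hz0 g h]
          simpa using (h 1 R.one_mem).symm
      · rw [coeff_Br_of_notMem z hg, hxC g hg]
    have hBRz : Br R z = 0 := by
      ext g
      by_cases hg : g ∈ Subgroup.centralizer (R : Set G)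
      · rw [coeff_Br_of_mem z hg, hz0 g fun r hr => ?_]
        · simp
        · rw [Subgroup.mem_centralizer_iff.1 hg r hr, mul_inv_cancel_right]
          by_contra hne
          exact hlt.ne ((hstab g hne).symm.trans (inf_eq_left.2 (le_centralizer_singleton hg)))
      · rw [coeff_Br_of_notMem z hg]
        simp
    -- so `izi` is not invertible in the corner
    have hzR : IsFix R z := hzfix.mono le_sup_left
    let zz : fixSub k (R ⊔ S) := i * ⟨z, hzfix⟩ * i
    have hnil : IsNilpotent zz := by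
      refine (hi.unit_or_nilpotent (k := k) (by simp only [zz, ← mul_assoc, hi.idem])
        (by simp only [zz, mul_assoc, hi.idem])).resolve_right ?_
      rintro ⟨w, -, -, hw, -⟩
      apply h0
      have h1 : (i : k[G]) * z * (i : k[G]) * (w : k[G]) = i := congrArg Subtype.val hw
      rw [← h1, Br_mul hR ((hiR.mul hzR).mul hiR) (IsFix.mono w.2 le_sup_left),
        Br_mul hR (hiR.mul hzR) hiR, Br_mul hR hiR hzR, hBRz, mul_zero, zero_mul, zero_mul]
    obtain ⟨n, hn⟩ := hnil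
    have hiQ : IsFix Q (i : k[G]) := hiR.mono hQR
    have hzQ : IsFix Q z := hzR.mono hQR
    have hbb : bi * bi = bi := by rw [hbi, ← Br_mul hQp hiQ hiQ, hii]
    have hxi : bi * x * bi = x := by
      simp only [hx, mul_sub, sub_mul, hbb]
      rw [← mul_assoc bi bi b, hbb, mul_assoc bi b bi, hcomm, ← mul_assoc, hbb]
    have hxx : x * x = x := by
      have e1 : bi * (bi * b) = bi * b := by rw [← mul_assoc, hbb]
      have e2 : bi * b * bi = bi * b := by rw [mul_assoc, hcomm, e1]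
      have e3 : bi * b * (bi * b) = bi * b := by
        rw [← mul_assoc, e2, mul_assoc, hbp.cidem.idem]
      simp only [hx, mul_sub, sub_mul, hbb, e1, e2, e3]
      abel
    have hBzz : Br Q ((zz : fixSub k (R ⊔ S)) : k[G]) = x := by
      show Br Q ((i : k[G]) * z * (i : k[G])) = x
      rw [Br_mul hQp (hiQ.mul hzQ) hiQ, Br_mul hQp hiQ hzQ, hBz, hxi]
    have hpow : ∀ m : ℕ, Br Q (((zz ^ (m + 1) : fixSub k (R ⊔ S))) : k[G]) = x := by
      intro m
      induction m with
      | zero => rw [pow_one, hBzz]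
      | succ m ihm =>
        rw [pow_succ, Subalgebra.coe_mul, Br_mul hQp
          (IsFix.mono (zz ^ (m + 1)).2 (hQR.trans le_sup_left))
          (IsFix.mono zz.2 (hQR.trans le_sup_left)), ihm, hBzz, hxx]
    have hx0 : x = 0 := by
      rw [← hpow n, pow_succ, hn, zero_mul, ZeroMemClass.coe_zero, Br_zero]
    exact (sub_eq_zero.1 hx0).symm

end H23
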