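import Cfsg.Agent.H23.Stable
import Cfsg.Agent.H23.LocalBlock
import Cfsg.Agent.H22.Contrib
import Cfsg.Agent.H19.MajorBound
import Cfsg.Agent.H19.SubsectionNorm
import Cfsg.Agent.H20.OrthConv

/-!
# The characters of a nilpotent block

`H23.nilpotent_main`: for a block with inner fusion on elements and a character `χ` of height zero
the map `λ ↦ λ * χ` is a bijection from `Irr P` onto the block.
-/

set_option autoImplicit false
set_option linter.style.haveILetI false
set_option linter.unusedSectionVars false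

open Cfsg
open scoped MonoidAlgebra ComplexConjugate

namespace H23

universe u

variable {G : Type u} [Group G] [Fintype G] {p : ℕ} [hp : Fact p.Prime] {M : Ideal AlgInt}
  [hMp : M.IsPrime] [CharP (H20.k M) p] [IsAlgClosed (H20.k M)]

local notation "kG" => MonoidAlgebra (H20.k M) G
local notation "C[" x "]" => (Subgroup.centralizer ({x} : Set _))

variable {P : Subgroup G} {e : MonoidAlgebra (H20.k M) G} {B : Set (IrrCharacter G)}

theorem T_cj_any (χ : IrrCharacter G) (x g : G) (a : kG) :
    T χ (x * g * x⁻¹) (cj x a) = T χ g a := by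
  classical
  by_cases h : IsId g a
  · exact T_cj χ x h
  · have h' : ¬ IsId (x * g * x⁻¹) (cj x a) := fun h' => h ⟨(cj x).injective (by
      rw [map_mul, h'.idem]), (cj x).injective (by
      have := h'.fix
      rwa [cj_cj, inv_mul_cancel_right, ← cj_cj] at this)⟩
    rw [T, T, dif_neg h, dif_neg h']

theorem pairC_cj (x u : G) (b : kG) (χ ψ : IrrCharacter G) :
    pairC p (x * u * x⁻¹) (cj x b) χ ψ = pairC p u b χ ψ := by
  classical
  unfold pairC
  congr 1
  · rw [← cjS_zpowers, ← cjS_centralizer, card_cjS]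
  · symm
    refine Fintype.sum_equiv (MulAut.conj x).toEquiv _ _ fun g => ?_
    show _ = if H20.pPart p (x * g * x⁻¹) = x * u * x⁻¹ then
      T χ (x * g * x⁻¹) (cj x b) * conj (T ψ (x * g * x⁻¹) (cj x b)) else 0
    rw [H20.pPart_conj, T_cj_any, T_cj_any]
    by_cases h : H20.pPart p g = u
    · rw [if_pos h, if_pos (by rw [h])]
    · rw [if_neg h, if_neg fun h' => h (mul_left_cancel (mul_right_cancel h'))]

/-- The block of `C(y)` below `(P, e)`, with the order of its defect groups. -/
theorem exists_section (hM : IsPModular p M) (hB : IsPBlock M B) (hmax : IsMax p (eB M B) P e)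
    {y : G} (hy : ∃ j : ℕ, orderOf y = p ^ j) {b : kG}
    (hb : Le p (Subgroup.zpowers y, b) (P, e)) [Fintype C[y]] :
    ∃ β : Set (IrrCharacter C[y]), IsInducedBlock M C[y] β B ∧ eG M C[y] β = b ∧
      ∃ x : G, Le p (Subgroup.zpowers (x * y * x⁻¹), cj x b) (P, e) ∧
        p ^ blockDefect p β =
          Nat.card (P ⊓ Subgroup.centralizer (Subgroup.zpowers (x * y * x⁻¹) : Set G) : Subgroup G) ∧
        Nat.card (P ⊓ Subgroup.centralizer (Subgroup.zpowers y : Set G) : Subgroup G) ≤
          p ^ blockDefect p β := by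
  classical
  set Q := Subgroup.zpowers y with hQ
  set H := Subgroup.centralizer (Q : Set G) with hH
  haveI := Fintype.ofFinite H
  have hbp := hb.pair_left p hmax.1
  obtain ⟨β, hβ, hβb⟩ := exists_of_isPair hbp
  have hin : InBlk (eB M B) Q b := (Le.inBlk_iff p hb (cidem_eB hB)).1 hmax.2.1
  have hind : IsInducedBlock M H β B := H19.SubNorm.induced_of_brauerPairOf hM hy (centralizer_zpowers y)
    ((isBrauerPairOf_iff hB hβ).2 (by rw [hβb]; exact hin))
  have hQC : Q ≤ H := by
    rw [hH, Subgroup.le_centralizer_iff_isMulCommutative]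
    infer_instance
  have hwc : withCent Q = H := sup_eq_right.2 hQC
  obtain ⟨R, h, hl⟩ := exists_locMax p hbp (T := withCent Q) le_sup_left
    (centralizer_le_withCent Q) (withCent_le_stab p hbp)
  have hD := isDefectGroup_cent hM hl hβ.2 hβb
  have hcard := H20.card_defectGroup hM hβ.2 hD
  rw [card_subgroupOf inf_le_right] at hcard
  obtain ⟨x, hx, hxR⟩ := hl.exists_conj_inf_cent p (isBlk_eB hB) hmax hb
  have hle := hl.card_inf_cent_le p hmax.1 (y := 1) (by rwa [cjS_one, cj_one])
  rw [cjS_one] at hle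
  have hxy : cjS x Q = Subgroup.zpowers (x * y * x⁻¹) := cjS_zpowers x y
  rw [hxy] at hx hxR
  have key : ∀ (K : Subgroup G) [Fintype K], K = C[y] → ∀ γ : Set (IrrCharacter K),
      IsInducedBlock M K γ B → eG M K γ = b →
      ∃ β' : Set (IrrCharacter C[y]), IsInducedBlock M C[y] β' B ∧ eG M C[y] β' = b ∧
        blockDefect p β' = blockDefect p γ := by
    intro K _ hK
    subst hK
    exact fun γ h1 h2 => ⟨γ, h1, h2, rfl⟩
  obtain ⟨β', h1, h2, h3⟩ := key H (centralizer_zpowers y) β hind hβb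
  refine ⟨β', h1, h2, x, hx, ?_, ?_⟩
  · rw [hxR, card_cjS, h3, ← hcard]
  · rw [h3, ← hcard]
    exact hle

theorem exists_setup_at (hM : IsPModular p M) {x : G} [Fintype C[x]] {a : ℕ} (hx : x ^ p ^ a = 1)
    {b : Set (IrrCharacter C[x])} (hind : IsInducedBlock M C[x] b B) :
    ∃ S : H22.Contrib.Setup p M x B b, S.j = a := by
  obtain ⟨z, hz, hzm⟩ := H22.exists_isDeltaMatrix hM hind.1
  obtain ⟨κ, hκR, hκI, hκ⟩ := H22.exists_congr_const hM hind.1 (H22.weakOrth_of_block hM hind.1)
  have hN : p ^ a * p ≠ 0 := mul_ne_zero (pow_ne_zero _ hp.out.ne_zero) hp.out.ne_zero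
  exact ⟨⟨hM, hind.2.1, hind, a, by rw [pow_mul, hx, one_pow],
    _, Complex.isPrimitiveRoot_exp _ hN, z, hz, hzm, κ, hκR, hκI, hκ⟩, rfl⟩

open H22 in
theorem gpart_eq {x : G} [Fintype C[x]] {b : Set (IrrCharacter C[x])}
    (S : Contrib.Setup p M x B b) (k : ℕ) (χ : IrrCharacter G) :
    S.gpart k χ = pRegularPart p (blockPart b (fun c : C[x] => (χ : G → ℂ) (x ^ k * (c : G)))) := by
  classical
  let z : C[x] := ⟨x, Contrib.mem_self x⟩
  have hz : z ∈ Subgroup.center C[x] := Contrib.self_mem_center x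
  have hsh : (fun c : C[x] => (χ : G → ℂ) (x ^ k * (c : G))) =
      ∑ η : IrrCharacter C[x],
        ((Contrib.nres C[x] χ η : ℂ) * Contrib.twist x η ^ k) • (η : C[x] → ℂ) := by
    funext c
    have hcl : IsClassFunction C[x] (fun h : C[x] => (χ : G → ℂ) h) := fun a b =>
      H12.irr_isClassFunction χ (a : G) (b : G)
    have hc : x ^ k * (c : G) = ((z ^ k * c : C[x]) : G) := by simp [z]
    rw [hc, H12.classFunction_apply_eq_sum hcl (z ^ k * c), Finset.sum_apply]
    refine Finset.sum_congr rfl fun η _ => ?_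
    rw [Contrib.classInner_res, H19.MajorBound.irr_pow_central hz, Pi.smul_apply, smul_eq_mul,
      show H19.MajorBound.eps z η = Contrib.twist x η from rfl]
    ring
  rw [hsh, Sub.blockPart_eq_smul_sum, ← Sub.regMap_apply, map_sum, Contrib.Setup.gpart]
  simp only [Contrib.Setup.gmap, Finset.smul_sum, smul_smul]
  rw [Finset.sum_comm]
  refine Finset.sum_congr rfl fun η _ => ?_
  rw [← Finset.sum_smul, map_smul, Sub.regMap_apply, H12.classInner_sum_smul_irr]
  congr 1
  rw [Finset.sum_eq_single (S.idx η)]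
  · simp [Contrib.Setup.vec, ← S.zeta_pow_idx, mul_comm, ← pow_mul]
  · intro i _ hne
    simp [Contrib.Setup.vec, Ne.symm hne]
  · exact fun h => absurd (Finset.mem_range.2 (S.idx_lt η)) h

/-- The weighted pairing on the section of `y`. -/
noncomputable def weightC (p : ℕ) (P : Subgroup G) (χ : IrrCharacter G) (y : G) (b : kG) : ℂ :=
  (Nat.card (P ⊓ Subgroup.centralizer (Subgroup.zpowers y : Set G) : Subgroup G) : ℂ) *
    pairC p y b χ χ

theorem pow_orderOf_mem (hP : IsPGroup p P) {a : ℕ} (ha : Nat.card P = p ^ a) {y : G}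
    (hy : y ∈ P) : y ^ p ^ a = 1 := by
  have h : (⟨y, hy⟩ : P) ^ Nat.card P = 1 := pow_card_eq_one'
  rw [ha] at h
  exact congrArg Subtype.val h

theorem exists_orderOf_of_mem (hP : IsPGroup p P) {y : G} (hy : y ∈ P) :
    ∃ j : ℕ, orderOf y = p ^ j := by
  obtain ⟨j, hj⟩ := IsPGroup.iff_orderOf.1 hP ⟨y, hy⟩
  exact ⟨j, by rwa [Subgroup.orderOf_mk] at hj⟩

/-- The weight is the scaled contribution, positive, with integral conjugates. -/
theorem weightC_facts (hM : IsPModular p M) (hB : IsPBlock M B) (hmax : IsMax p (eB M B) P e)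
    (hinner : InnerOnElements p P e) {a : ℕ} (ha : Nat.card P = p ^ a) {χ : IrrCharacter G}
    (hχ : χ ∈ B) (h0 : blockHeight p B (χ : G → ℂ) = 0) {y : G} (hy : y ∈ P) {b : kG}
    (hb : Le p (Subgroup.zpowers y, b) (P, e)) :
    (weightC p P χ y b).im = 0 ∧ 0 < (weightC p P χ y b).re ∧
      1 ≤ ∏ k ∈ H19.units' (p ^ a * p), (weightC p P χ (y ^ k) b).re := by
  classical
  haveI := Fintype.ofFinite C[y]
  have hy' := exists_orderOf_of_mem hmax.1.1 hy
  obtain ⟨β, hind, hβb, x, hx, hcardx, -⟩ := exists_section hM hB hmax hy' hb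
  obtain ⟨S, hSj⟩ := exists_setup_at hM (pow_orderOf_mem hmax.1.1 ha hy) hind
  have hq : p ^ blockDefect p β =
      Nat.card (P ⊓ Subgroup.centralizer (Subgroup.zpowers y : Set G) : Subgroup G) := by
    obtain ⟨π, hπ, hπy⟩ := hinner y hy x b hb hx
    rw [hcardx, ← hπy, ← cjS_zpowers, ← cjS_centralizer]
    conv_lhs => rw [← cjS_eq_self (R := P) (Subgroup.le_normalizer hπ), ← cjS_inf, card_cjS]
  have hval : ∀ k, (p ^ a * p).Coprime k → weightC p P χ (y ^ k) b = S.aval k χ χ := by
    intro k hk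
    have hz : Subgroup.zpowers (y ^ k) = Subgroup.zpowers y := by
      obtain ⟨m, hm⟩ := exists_pow_eq_self_of_coprime (n := k) (x := y) (by
        refine (Nat.Coprime.coprime_dvd_left ?_ hk).symm
        exact (orderOf_dvd_of_pow_eq_one (pow_orderOf_mem hmax.1.1 ha hy)).trans (Dvd.intro p rfl))
      refine le_antisymm (Subgroup.zpowers_le.2 (pow_mem (Subgroup.mem_zpowers y) k))
        (Subgroup.zpowers_le.2 ?_)
      exact Subgroup.mem_zpowers_iff.2 ⟨m, by rw [zpow_natCast]; exact hm⟩
    have hk' := exists_orderOf_of_mem hmax.1.1 (P.pow_mem hy k)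
    have hHk : C[y] = Subgroup.centralizer (Subgroup.zpowers (y ^ k) : Set G) := by
      rw [hz, centralizer_zpowers]
    conv_lhs => rw [weightC, ← hβb]
    rw [pairC_eq hk' C[y] hHk hind.1, hz, ← hq, S.aval_eq, gpart_eq]
    push_cast
    rfl
  have hN : 0 < p ^ a * p := Nat.mul_pos (pow_pos hp.out.pos a) hp.out.pos
  have h1mem : (p ^ a * p).Coprime 1 := Nat.coprime_one_right _
  have hreal : ∀ k, (p ^ a * p).Coprime k →
      0 ≤ (weightC p P χ (y ^ k) b).re ∧ (weightC p P χ (y ^ k) b).im = 0 := fun k hk => by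
    rw [hval k hk]; exact S.aval_self_nonneg k χ
  have hne : S.aval 1 χ χ ≠ 0 := fun h => S.aval_not_memIdeal hχ hχ h0 h0 (by
    rw [h]; exact H20.memIdeal_zero)
  refine ⟨by simpa using (hreal 1 h1mem).2, ?_, ?_⟩
  · refine lt_of_le_of_ne (by simpa using (hreal 1 h1mem).1) fun h => hne ?_
    rw [← hval 1 h1mem]
    exact Complex.ext (by simpa using h.symm) (hreal 1 h1mem).2
  · let Q : Polynomial ℤ := ∑ t ∈ Finset.range S.N,
      Polynomial.C (S.wvec χ χ t) * Polynomial.X ^ t
    have hQ : ∀ k, Polynomial.aeval (S.ζ ^ k) Q = S.aval k χ χ := fun k => by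
      rw [S.aval_eq_wvec, map_sum]
      refine Finset.sum_congr rfl fun t _ => ?_
      simp [← pow_mul]
    have hζ : IsPrimitiveRoot S.ζ (p ^ a * p) := hSj ▸ S.hζ
    have hprod : 1 ≤ ∏ k ∈ H19.units' (p ^ a * p), ‖Polynomial.aeval (S.ζ ^ k) Q‖ ^ 2 := by
      refine (H19.one_le_prod_normSq hN hζ Q (by
        rw [← pow_one S.ζ, hQ]; exact hne)).trans_eq ?_
      symm
      refine Finset.prod_bij (fun j _ => S.ζ ^ j) ?_ ?_ ?_ (fun j _ => rfl)
      · intro j hj
        exact (mem_primitiveRoots hN).mpr (hζ.pow_of_coprime j (H19.mem_units'.mp hj).2.symm)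
      · intro i hi j hj hij
        exact hζ.pow_inj (H19.mem_units'.mp hi).1 (H19.mem_units'.mp hj).1 hij
      · intro μ hμ
        haveI : NeZero (p ^ a * p) := ⟨hN.ne'⟩
        obtain ⟨j, hjn, hjc, rfl⟩ := (IsPrimitiveRoot.isPrimitiveRoot_iff hζ).mp
          ((mem_primitiveRoots hN).mp hμ)
        exact ⟨j, H19.mem_units'.mpr ⟨hjn, hjc.symm⟩, rfl⟩
    rw [Finset.prod_pow] at hprod
    have hn : ∀ k ∈ H19.units' (p ^ a * p),
        ‖Polynomial.aeval (S.ζ ^ k) Q‖ = (weightC p P χ (y ^ k) b).re := fun k hk => by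
      have hk' := (H19.mem_units'.1 hk).2
      obtain ⟨h1, h2⟩ := hreal k hk'
      rw [hQ, ← hval k hk']
      conv_lhs => rw [show weightC p P χ (y ^ k) b = (((weightC p P χ (y ^ k) b).re : ℝ) : ℂ) from
        Complex.ext rfl (by simpa using h2)]
      rw [Complex.norm_real, Real.norm_of_nonneg h1]
    rw [Finset.prod_congr rfl hn] at hprod
    have h0' : 0 ≤ ∏ k ∈ H19.units' (p ^ a * p), (weightC p P χ (y ^ k) b).re :=
      Finset.prod_nonneg fun k hk => (hreal k (H19.mem_units'.1 hk).2).1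
    nlinarith

open scoped Classical in
/-- Inner products of stars as sums over `P`. -/
theorem classInner_starFn_nilpotent (hM : IsPModular p M) (hB : IsPBlock M B)
    (hmax : IsMax p (eB M B) P e) (hinner : InnerOnElements p P e) {lam mu : G → ℂ}
    (hl : Stable p P e lam) (hm : Stable p P e mu) (χ : IrrCharacter G) (bu : P → kG)
    (hbu : ∀ y : P, Le p (Subgroup.zpowers (y : G), bu y) (P, e)) :
    classInner (starFn p (hStar p P e lam) χ) (starFn p (hStar p P e mu) χ) =
      (Nat.card P : ℂ)⁻¹ * ∑ y : P, lam y * conj (mu y) * weightC p P χ (y : G) (bu y) := by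
  classical
  have hP0 : (Nat.card P : ℂ) ≠ 0 := Nat.cast_ne_zero.2 Nat.card_pos.ne'
  have hG0 : (Nat.card G : ℂ) ≠ 0 := Nat.cast_ne_zero.2 Nat.card_pos.ne'
  set Φ : G → kG → ℂ := fun u b => hStar p P e lam u b * conj (hStar p P e mu u b) *
    ((Nat.card (Subgroup.centralizer (Subgroup.zpowers u : Set G)) : ℂ) * pairC p u b χ χ) with hΦdef
  have hΦ : HInv Φ := fun x u b => by
    simp only [hΦdef, hInv_hStar hl x u b, hInv_hStar hm x u b, pairC_cj]
    rw [← cjS_zpowers, ← cjS_centralizer, card_cjS]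
  have h := sum_pairs_nilpotent (p := p) hB hmax hinner Φ hΦ
    (fun u b hn => by simp only [hΦdef, hStar_eq_zero hB hmax hn, zero_mul]) bu hbu
  rw [classInner_starFn hM]
  show (Nat.card G : ℂ)⁻¹ *
    ∑ u ∈ Finset.univ.filter (fun u : G => ∃ j : ℕ, orderOf u = p ^ j), ∑ b ∈ Bls M u, Φ u b = _
  rw [eq_inv_mul_iff_mul_eq₀ hP0, mul_left_comm, h, Finset.mul_sum]
  refine Finset.sum_congr rfl fun y _ => ?_
  have hC : (Nat.card (Subgroup.centralizer (Subgroup.zpowers (y : G) : Set G)) : ℂ) ≠ 0 :=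
    Nat.cast_ne_zero.2 Nat.card_pos.ne'
  simp only [hΦdef, hStar_below hl (hbu y), hStar_below hm (hbu y), weightC]
  field_simp

open scoped Classical in
/-- The weights of a character of height zero are one. -/
theorem weightC_eq_one (hM : IsPModular p M) (hB : IsPBlock M B) (hmax : IsMax p (eB M B) P e)
    (hinner : InnerOnElements p P e) {χ : IrrCharacter G} (hχ : χ ∈ B)
    (h0 : blockHeight p B (χ : G → ℂ) = 0) (bu : P → kG)
    (hbu : ∀ y : P, Le p (Subgroup.zpowers (y : G), bu y) (P, e)) (y : P) :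
    weightC p P χ (y : G) (bu y) = 1 := by
  classical
  obtain ⟨a, ha⟩ := IsPGroup.iff_card.1 hmax.1.1
  set w : P → ℝ := fun y => (weightC p P χ (y : G) (bu y)).re with hw
  have hfacts := fun y : P => weightC_facts hM hB hmax hinner ha hχ h0 y.2 (hbu y)
  have hwc : ∀ y : P, weightC p P χ (y : G) (bu y) = (w y : ℂ) := fun y =>
    Complex.ext rfl (by simpa using (hfacts y).1)
  -- the total
  have hsum : ∑ y : P, w y = (Nat.card P : ℝ) := by
    have h := classInner_starFn_nilpotent hM hB hmax hinner stable_one stable_one χ bu hbu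
    rw [starFn_one hM hB hmax hχ, H12.classInner_irr_self] at h
    simp only [Pi.one_apply, map_one, one_mul, hwc] at h
    have hP0 : (Nat.card P : ℂ) ≠ 0 := Nat.cast_ne_zero.2 Nat.card_pos.ne'
    rw [eq_inv_mul_iff_mul_eq₀ hP0, mul_one, ← Complex.ofReal_sum] at h
    exact_mod_cast h.symm
  -- Galois
  have hlog : 0 ≤ ∑ y : P, Real.log (w y) := by
    have hU : (H19.units' (p ^ a * p)).Nonempty :=
      Finset.card_pos.1 (by
        rw [H19.card_units']
        exact Nat.totient_pos.2 (Nat.mul_pos (pow_pos hp.out.pos a) hp.out.pos))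
    have hperm : ∀ k ∈ H19.units' (p ^ a * p),
        ∑ y : P, Real.log ((weightC p P χ ((y : G) ^ k) (bu y)).re) = ∑ y : P, Real.log (w y) := by
      intro k hk
      have hcop : (Nat.card P).Coprime k := by
        rw [ha]
        exact Nat.Coprime.coprime_dvd_left (Dvd.intro p rfl) (H19.mem_units'.1 hk).2
      refine Fintype.sum_equiv (powCoprime hcop) _ _ fun y => ?_
      simp only [hw, powCoprime_apply, Subgroup.coe_pow]
      congr 3
      have hz : Subgroup.zpowers ((y : G) ^ k) ≤ Subgroup.zpowers (y : G) :=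
        Subgroup.zpowers_le.2 (pow_mem (Subgroup.mem_zpowers _) k)
      obtain ⟨m, hm⟩ := exists_pow_eq_self_of_coprime (n := k) (x := (y : G)) (by
        refine (Nat.Coprime.coprime_dvd_left ?_ hcop).symm
        rw [Subgroup.orderOf_coe]
        exact orderOf_dvd_natCard y)
      have heq : Subgroup.zpowers ((y : G) ^ k) = Subgroup.zpowers (y : G) := by
        refine le_antisymm hz (Subgroup.zpowers_le.2 ?_)
        exact Subgroup.mem_zpowers_iff.2 ⟨m, by rw [zpow_natCast]; exact hm⟩
      have hbk := hbu (powCoprime hcop y)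
      simp only [powCoprime_apply, Subgroup.coe_pow] at hbk
      rw [heq] at hbk
      exact (le_unique p hmax.1 (hbk) (hbu y)).symm
    have h1 : ∀ y : P, 0 ≤ ∑ k ∈ H19.units' (p ^ a * p),
        Real.log ((weightC p P χ ((y : G) ^ k) (bu y)).re) := by
      intro y
      have hprod := (hfacts y).2.2
      rw [← Real.log_prod]
      · exact Real.log_nonneg hprod
      · intro k hk h
        rw [Finset.prod_eq_zero hk h] at hprod
        linarith
    have h2 := Finset.sum_nonneg fun y (_ : y ∈ (Finset.univ : Finset P)) => h1 y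
    rw [Finset.sum_comm, Finset.sum_congr rfl hperm, Finset.sum_const, nsmul_eq_mul] at h2
    exact nonneg_of_mul_nonneg_right h2 (by exact_mod_cast hU.card_pos)
  by_contra hne
  have hwne : w y ≠ 1 := fun h => hne (by rw [hwc, h, Complex.ofReal_one])
  have hlt : ∑ z : P, Real.log (w z) < ∑ z : P, (w z - 1) :=
    Finset.sum_lt_sum (fun z _ => Real.log_le_sub_one_of_pos (hfacts z).2.1)
      ⟨y, Finset.mem_univ _, Real.log_lt_sub_one_of_pos (hfacts y).2.1 hwne⟩
  rw [Finset.sum_sub_distrib, hsum, Finset.sum_const, nsmul_one, Finset.card_univ,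
    Nat.card_eq_fintype_card] at hlt
  linarith

open scoped Classical in
/-- **The characters of a nilpotent block.** -/
theorem nilpotent_main (hM : IsPModular p M) (hB : IsPBlock M B)
    (hmax : IsMax p (eB M B) P e) (hinner : InnerOnElements p P e) {χ : IrrCharacter G}
    (hχ : χ ∈ B) (h0 : blockHeight p B (χ : G → ℂ) = 0) :
    ∃ ψ : IrrCharacter P → IrrCharacter G, Function.Injective ψ ∧ Set.range ψ = B ∧
      ∀ l : IrrCharacter P,
        charDegree (ψ l : G → ℂ) = charDegree (l : P → ℂ) * charDegree (χ : G → ℂ) ∧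
        ∀ g : G, ¬ p ∣ orderOf g →
          (ψ l : G → ℂ) g = (charDegree (l : P → ℂ) : ℂ) * (χ : G → ℂ) g := by
  classical
  have hex : ∀ y : P, ∃ b, Le p (Subgroup.zpowers (y : G), b) (P, e) := fun y =>
    exists_le p hmax.1 (Subgroup.zpowers_le.2 y.2)
  choose bu hbu using hex
  have hw := weightC_eq_one hM hB hmax hinner hχ h0 bu hbu
  let lam : IrrCharacter P → G → ℂ := fun l => extendByZero P (l : P → ℂ)
  have hlamP : ∀ (l : IrrCharacter P) (y : P), lam l y = (l : P → ℂ) y := fun l y =>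
    H14.extendByZero_of_mem P _ y.2
  have hst : ∀ l, Stable p P e (lam l) := by
    intro l y hy g b h1 h2
    obtain ⟨π, hπ, he⟩ := hinner y hy g b h1 h2
    rw [← he, show lam l y = _ from hlamP l ⟨y, hy⟩,
      show lam l (π * y * π⁻¹) = _ from hlamP l (⟨π, hπ⟩ * ⟨y, hy⟩ * (⟨π, hπ⟩ : P)⁻¹)]
    exact H12.irr_isClassFunction l _ _
  have hl1 : ∀ l, lam l 1 = (charDegree (l : P → ℂ) : ℂ) := fun l => by
    rw [show lam l 1 = _ from hlamP l 1, H22.irr_one_eq_charDegree]
  have hgc : ∀ l, IsGeneralizedCharacter P (fun y : P => lam l (y : G)) := fun l => by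
    simp only [hlamP]
    exact ⟨_, 0, H12.isCharacter_irr l, H12.isCharacter_zero, by simp⟩
  have hinnerProd : ∀ l m : IrrCharacter P,
      classInner (starFn p (hStar p P e (lam l)) χ) (starFn p (hStar p P e (lam m)) χ) =
        classInner (l : P → ℂ) (m : P → ℂ) := by
    intro l m
    rw [classInner_starFn_nilpotent hM hB hmax hinner (hst l) (hst m) χ bu hbu, classInner]
    congr 1
    exact Finset.sum_congr rfl fun y _ => by rw [hlamP, hlamP, hw, mul_one]
  have hdeg1 : ∀ l, starFn p (hStar p P e (lam l)) χ 1 =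
      ((charDegree (l : P → ℂ) * charDegree (χ : G → ℂ) : ℕ) : ℂ) := fun l => by
    rw [starFn_apply_one hM hB hmax (hst l) hχ, hl1, H22.irr_one_eq_charDegree]
    push_cast; rfl
  have hirr : ∀ l, IsIrrCharacter G (starFn p (hStar p P e (lam l)) χ) := fun l =>
    H14.isIrrCharacter_of_norm_one
      (isGeneralizedCharacter_starFn hM (hInv_hStar (hst l)) (hLocal_hStar hB hmax (hst l) (hgc l)) χ)
      (by rw [hinnerProd, H12.classInner_irr_self])
      (Nat.mul_pos (H22.charDegree_pos l) (H22.charDegree_pos χ)) (hdeg1 l)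
  let ψ : IrrCharacter P → IrrCharacter G := fun l => ⟨_, hirr l⟩
  have hinj : Function.Injective ψ := by
    intro l m h
    by_contra hne
    have h1 := hinnerProd l m
    rw [show starFn p (hStar p P e (lam l)) χ = starFn p (hStar p P e (lam m)) χ from
      congrArg Subtype.val h, hinnerProd m m, H12.classInner_irr_self,
      H12.classInner_irr_ne hne] at h1
    exact one_ne_zero h1
  have hreg : ∀ l g, ¬ p ∣ orderOf g →
      (ψ l : G → ℂ) g = (charDegree (l : P → ℂ) : ℂ) * (χ : G → ℂ) g := by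
    intro l g hg
    have hp1 : H20.pPart p g = 1 := H20.pPart_eq_one_iff.2 hg
    show starFn p (hStar p P e (lam l)) χ g = _
    rw [← starFn_one hM hB hmax hχ, starFn_eq, starFn_eq, Finset.mul_sum]
    refine Finset.sum_congr rfl fun b hb => ?_
    by_cases hi : InBlk (eB M B) (Subgroup.zpowers (H20.pPart p g)) b
    · obtain ⟨x, hx⟩ := exists_below hB hmax (H20.exists_orderOf_pPart _) hb hi
      rw [hStar_eq stable_one hx, hStar_eq (hst l) hx, hp1, mul_one, inv_mul_cancel, Pi.one_apply,
        one_mul, hl1]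
    · rw [T_eq_zero_of_not_inBlk hM hB hχ hb hi, mul_zero, mul_zero, mul_zero]
  have hsub : Set.range ψ ⊆ B := by
    rintro _ ⟨l, rfl⟩
    exact mem_of_star hM hB hmax (hst l)
      (by rw [hl1]; exact_mod_cast (H22.charDegree_pos l).ne') hχ rfl
  refine ⟨ψ, hinj, ?_, fun l => ⟨?_, hreg l⟩⟩
  · have hsv : H20.SingVanish p (Set.range ψ) := by
      intro g h hg hh
      rw [finsum_mem_range hinj, finsum_eq_sum_of_fintype]
      simp only [hreg _ g hg]
      show ∑ l : IrrCharacter P, (charDegree (l : P → ℂ) : ℂ) * (χ : G → ℂ) g *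
        conj (starFn p (hStar p P e (lam l)) χ h) = 0
      simp only [starFn_eq, map_sum, map_mul, Finset.mul_sum]
      rw [Finset.sum_comm]
      refine Finset.sum_eq_zero fun b hb => ?_
      by_cases hi : InBlk (eB M B) (Subgroup.zpowers (H20.pPart p h)) b
      · obtain ⟨x, hx⟩ := exists_below hB hmax (H20.exists_orderOf_pPart _) hb hi
        have hy : x⁻¹ * H20.pPart p h * x ∈ P := mem_of_le (le_pull hx)
        have hy1 : (⟨_, hy⟩ : P) ≠ 1 := fun h1 => by
          refine (H20.pPart_eq_one_iff (p := p) (g := h)).not.2 (not_not.2 hh) ?_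
          have := congrArg (fun z : P => x * (z : G) * x⁻¹) h1
          simpa [mul_assoc] using this
        have hr := congrArg conj (H12.regular_eq_sum (G := P) ⟨_, hy⟩)
        rw [if_neg hy1, map_zero, map_sum] at hr
        calc ∑ l : IrrCharacter P, (charDegree (l : P → ℂ) : ℂ) * (χ : G → ℂ) g *
            (conj (hStar p P e (lam l) (H20.pPart p h) b) * conj (T χ h b))
            = (∑ l : IrrCharacter P, conj ((l : P → ℂ) 1 * (l : P → ℂ) ⟨_, hy⟩)) *
                ((χ : G → ℂ) g * conj (T χ h b)) := by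
              rw [Finset.sum_mul]
              refine Finset.sum_congr rfl fun l _ => ?_
              rw [hStar_eq (hst l) hx, show lam l (x⁻¹ * H20.pPart p h * x) = _ from
                hlamP l ⟨_, hy⟩, map_mul, H22.irr_one_eq_charDegree, Complex.conj_natCast]
              ring
          _ = 0 := by rw [hr, zero_mul]
      · refine Finset.sum_eq_zero fun l _ => ?_
        rw [T_eq_zero_of_not_inBlk hM hB hχ hb hi, map_zero, mul_zero, mul_zero]
    have hmem := H20.memRing_blockCoeff_of_singVanish hM hsv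
    obtain ⟨l₀⟩ : Nonempty (IrrCharacter P) := ⟨H12.oneIrr P⟩
    refine Set.Subset.antisymm hsub ?_
    rw [H20.block_eq_blockOf hB (hsub ⟨l₀, rfl⟩)]
    exact H20.union_of_blocks hmem ⟨l₀, rfl⟩
  · have := hdeg1 l
    rw [show starFn p (hStar p P e (lam l)) χ 1 = (ψ l : G → ℂ) 1 from rfl,
      H22.irr_one_eq_charDegree] at this
    exact_mod_cast this

end H23
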