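import Cfsg.Agent.H23.MinDimCoset
import Cfsg.Agent.H23.NilpotentBlocks

/-!
# A block of least possible dimension is nilpotent
-/

set_option autoImplicit false
set_option linter.style.haveILetI false
set_option linter.unusedSectionVars false
set_option maxHeartbeats 400000

open Cfsg
open scoped MonoidAlgebra ComplexConjugate

namespace H23

universe u

variable {G : Type u} [Group G] [Fintype G] {M : Ideal AlgInt} [hMp : M.IsPrime]
  {p : ℕ} [Fact p.Prime] [CharP (H20.k M) p] [IsAlgClosed (H20.k M)]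

attribute [local instance] lrAct

local notation "kG" => MonoidAlgebra (H20.k M) G
local notation "gG" => MonoidAlgebra.of (H20.k M) G

/-- A block of least possible dimension is nilpotent. -/
theorem nilpotent_of_min (hM : IsPModular p M) {B : Set (IrrCharacter G)} (hB : IsPBlock M B)
    {D : Subgroup G} (hD : IsDefectGroup p M B D) {a d : ℕ}
    (ha : (Nat.card G).factorization p = a) (hd : Nat.card D = p ^ d)
    (hmin : ∑ᶠ χ ∈ B, charDegree (χ : G → ℂ) ^ 2 = p ^ (2 * a - d)) :
    IsNilpotentBlock p M B := by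
  classical
  obtain ⟨e, hmax⟩ := exists_maxPair_defect hB hM hD
  have hdef := (hmax.exists_orbit p (isBlk_eB hB)).1
  refine ⟨hB, fun Q f hQ y hy _ hreg => ?_⟩
  have hQp : IsPGroup p Q := hQ.1.1
  obtain ⟨P, hQP⟩ := hQp.exists_le_sylow
  obtain ⟨c, hcQ, hc⟩ := InBlk.exists_coeff ((isBrauerPairOf_iff hB hQ.1).1 hQ)
    (isPair_of (M := M) hQ.1).2.ne_zero
  obtain ⟨x, hx, hcard, hli⟩ := exists_double_coset hB P.2 hdef
  set O := MulAction.orbit ((P : Subgroup G).prod (P : Subgroup G)) x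
  have hPa : Nat.card (P : Subgroup G) = p ^ a := by rw [P.card_eq_multiplicity, ha]
  have hda : d ≤ 2 * a := by
    have h1 : p ^ d ∣ Nat.card G := hd ▸ Subgroup.card_subgroup_dvd_card D
    have := ((Fact.out : p.Prime).pow_dvd_iff_le_factorization Nat.card_pos.ne').1 h1
    omega
  have hle : p ^ (2 * a - d) ≤ Fintype.card O := by
    refine Nat.le_of_mul_le_mul_left ?_ (pow_pos (Fact.out : p.Prime).pos d)
    rw [← pow_add, Nat.add_sub_cancel' hda, two_mul, pow_add, ← hd, ← Nat.card_eq_fintype_card]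
    conv_lhs => rw [← hPa]
    exact hcard
  set b : kG := eB M B with hb
  have hcl : H20.IsCl b := H20.isCl_eRed B
  -- the span is everything
  obtain ⟨l, hl⟩ : ∃ l : O → H20.k M, b * gG y = ∑ i : O, l i • (b * gG (i : G)) := by
    by_contra hno
    have hli' : LinearIndependent (H20.k M) (fun i : Option O => b * gG (i.elim y (fun j => (j : G)))) := by
      rw [linearIndependent_option]
      refine ⟨hli, fun hmem => hno ?_⟩
      obtain ⟨l, hl⟩ := (Submodule.mem_span_range_iff_exists_fun (H20.k M)).1 hmem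
      exact ⟨l, hl.symm⟩
    have := card_le_degree_sq hB _ hli'
    rw [hmin, Fintype.card_option] at this
    omega
  -- the twisted diagonal of `Q`
  have hy' : ∀ u ∈ Q, y⁻¹ * u * y ∈ Q := fun u hu => (Subgroup.mem_normalizer_iff''.1 hy u).1 hu
  let ψ : Q →* (P : Subgroup G).prod (P : Subgroup G) :=
    { toFun := fun u => ⟨((u : G), y⁻¹ * u * y), hQP u.2, hQP (hy' u u.2)⟩
      map_one' := Subtype.ext (Prod.ext rfl (show y⁻¹ * 1 * y = 1 by group))
      map_mul' := fun u v => Subtype.ext (Prod.ext rfl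
        (show y⁻¹ * ((u : G) * v) * y = y⁻¹ * u * y * (y⁻¹ * v * y) by group)) }
  letI : MulAction Q O := MulAction.compHom O ψ
  have hcoe : ∀ (u : Q) (i : O),
      ((u • i : O) : G) = (u : G) * (i : G) * (y⁻¹ * (u : G) * y)⁻¹ := fun u i => rfl
  have hlinv : ∀ (u : Q) (i : O), l (u • i) = l i := by
    intro u
    have h1 : gG (u : G) * (b * gG y) * gG (y⁻¹ * (u : G) * y)⁻¹ = b * gG y := by
      rw [← mul_assoc (gG (u : G)), ← (hcl.commute (gG (u : G))).eq, mul_assoc, mul_assoc,
        ← map_mul, ← map_mul]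
      congr 2
      group
    rw [hl] at h1
    simp only [Finset.mul_sum, Finset.sum_mul, mul_smul_comm, smul_mul_assoc] at h1
    have h2 : ∑ i : O, l (u⁻¹ • i) • (b * gG (i : G)) = ∑ i : O, l i • (b * gG (i : G)) := by
      rw [← h1]
      refine (Fintype.sum_equiv (MulAction.toPerm u) _ _ fun i => ?_).symm
      simp only [MulAction.toPerm_apply, inv_smul_smul]
      rw [hcoe, map_mul, map_mul, ← mul_assoc (gG (u : G)), ← (hcl.commute (gG (u : G))).eq]
      simp only [mul_assoc]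
    intro i
    have h3 : ∀ j, l (u⁻¹ • j) - l j = 0 := by
      refine Fintype.linearIndependent_iff.1 hli (fun j => l (u⁻¹ • j) - l j) ?_
      simp only [sub_smul, Finset.sum_sub_distrib, h2, sub_self]
    have := h3 (u • i)
    rw [inv_smul_smul, sub_eq_zero] at this
    exact this.symm
  have hval : (∑ i : O, l i * b.coeff (c * y * (i : G)⁻¹)) = b.coeff c := by
    have h4 := congrArg (fun a : kG => a.coeff (c * y)) hl
    simpa [MonoidAlgebra.of_apply, H20.coeff_mul_single_one] using h4.symm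
  have hFinv : ∀ (u : Q) (i : O), l (u • i) * b.coeff (c * y * ((u • i : O) : G)⁻¹) =
      l i * b.coeff (c * y * (i : G)⁻¹) := by
    intro u i
    rw [hlinv, hcoe, ← hcl (c * y * (i : G)⁻¹) (u : G)]
    congr 2
    have hcu : (u : G) * c = c * (u : G) := Subgroup.mem_centralizer_iff.1 hcQ u u.2
    rw [show (u : G) * (c * y * (i : G)⁻¹) * (u : G)⁻¹ = (u : G) * c * y * (i : G)⁻¹ * (u : G)⁻¹ by
      group, hcu]
    group
  rw [← hval, sum_eq_sum_fixedPoints p hQp _ hFinv] at hc
  obtain ⟨i, hi, -⟩ := Finset.exists_ne_zero_of_sum_ne_zero hc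
  simp only [Finset.mem_filter, Finset.mem_univ, true_and] at hi
  obtain ⟨⟨⟨s, t⟩, hs, ht⟩, hst⟩ := i.2
  have hst' : s * x * t⁻¹ = (i : G) := hst
  have hw : s * t⁻¹ ∈ (P : Subgroup G) := mul_mem hs (inv_mem ht)
  obtain ⟨n, hn⟩ := P.2 ⟨_, inv_mem hw⟩
  have hyinv : y⁻¹ ∈ Subgroup.centralizer (Q : Set G) := by
    refine mem_centralizer_of_conj_eq (p := p) (inv_mem hy) (u := (s * t⁻¹)⁻¹) (n := n)
      (by show ¬ p ∣ orderOf y⁻¹; rw [orderOf_inv]; exact hreg) (congrArg Subtype.val hn) ?_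
    intro u
    have h5 : (u : G) * (i : G) * (y⁻¹ * (u : G) * y)⁻¹ = (i : G) :=
      (hcoe u i).symm.trans (congrArg Subtype.val (hi u))
    rw [← hst'] at h5
    set v := y⁻¹ * (u : G) * y with hv
    have h6 : s⁻¹ * (u : G) * s * x = x * (t⁻¹ * v * t) := by
      have h7 := eq_mul_of_mul_inv_eq h5
      calc s⁻¹ * (u : G) * s * x = s⁻¹ * ((u : G) * (s * x * t⁻¹)) * t := by group
        _ = s⁻¹ * (s * x * t⁻¹ * v) * t := by rw [h7]
        _ = x * (t⁻¹ * v * t) := by group
    have hsu : s⁻¹ * (u : G) * s ∈ (P : Subgroup G) := mul_mem (mul_mem (inv_mem hs) (hQP u.2)) hs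
    have htv : t⁻¹ * v * t ∈ (P : Subgroup G) :=
      mul_mem (mul_mem (inv_mem ht) (hQP (hy' u u.2))) ht
    have h8 := hx _ hsu (by rw [mul_assoc, h6, inv_mul_cancel_left]; exact htv)
    have h9 : s⁻¹ * (u : G) * s = t⁻¹ * v * t := mul_left_cancel (h8.symm.trans h6)
    calc y⁻¹ * (u : G) * y⁻¹⁻¹ = v := by rw [inv_inv]
      _ = t * (t⁻¹ * v * t) * t⁻¹ := by group
      _ = (s * t⁻¹)⁻¹ * (u : G) * (s * t⁻¹)⁻¹⁻¹ := by rw [← h9]; group
  simpa using inv_mem hyinv

end H23
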