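import Cfsg.Agent.H23.StarPart
import Cfsg.Agent.H20.RelTrace
import Mathlib.LinearAlgebra.Projection

/-!
# The dimension of a block algebra and the fusion in a block of minimal dimension

`H23.card_le_degree_sq`: independent translates `b x` of a block idempotent number at most
`∑ χ(1)²`.
`H23.nilpotent_of_min`: if this sum is `|P|² / |D|` then the block is nilpotent.
-/

set_option autoImplicit false
set_option linter.style.haveILetI false
set_option linter.unusedSectionVars false
set_option maxHeartbeats 400000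

open Cfsg
open scoped MonoidAlgebra ComplexConjugate

namespace H23

universe u

variable {G : Type u} [Group G]

/-- Left and right translation. -/
@[implicit_reducible]
def lrAct : MulAction (G × G) G where
  smul h x := h.1 * x * h.2⁻¹
  one_smul x := by show (1 : G) * x * 1⁻¹ = x; simp
  mul_smul a b x := by
    show a.1 * b.1 * x * (a.2 * b.2)⁻¹ = a.1 * (b.1 * x * b.2⁻¹) * a.2⁻¹
    group

attribute [local instance] lrAct

theorem lr_smul (h : G × G) (x : G) : h • x = h.1 * x * h.2⁻¹ := rfl

theorem sub_lr_smul {R : Subgroup (G × G)} (h : R) (x : G) :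
    h • x = (h : G × G).1 * x * (h : G × G).2⁻¹ := rfl

theorem isPGroup_prod {p : ℕ} {P : Subgroup G} (hP : IsPGroup p P) :
    IsPGroup p (P.prod P) := by
  rintro ⟨⟨a, b⟩, ha, hb⟩
  obtain ⟨m, hm⟩ := hP ⟨a, ha⟩
  obtain ⟨n, hn⟩ := hP ⟨b, hb⟩
  have hm' : a ^ p ^ m = 1 := congrArg Subtype.val hm
  have hn' : b ^ p ^ n = 1 := congrArg Subtype.val hn
  refine ⟨m + n, Subtype.ext ?_⟩
  show ((a, b) : G × G) ^ p ^ (m + n) = 1
  rw [Prod.pow_mk, pow_add, pow_mul, hm', one_pow, mul_comm, pow_mul, hn', one_pow]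
  rfl

/-- A nonzero invariant subspace of functions on a `p`-group set contains a nonzero invariant
function, in characteristic `p`. -/
theorem exists_invariant {k : Type*} [Field k] {p : ℕ} [Fact p.Prime] [CharP k p] {H : Type*}
    [Group H] [Finite H] (hH : IsPGroup p H) {α : Type*} [MulAction H α]
    (K : Submodule k (α → k)) (hK : ∀ (h : H), ∀ f ∈ K, (fun a => f (h⁻¹ • a)) ∈ K)
    {v : α → k} (hv : v ∈ K) (hv0 : v ≠ 0) :
    ∃ f ∈ K, f ≠ 0 ∧ ∀ (h : H) (a : α), f (h • a) = f a := by
  classical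
  haveI := Fintype.ofFinite H
  let Φ : (H → ZMod p) →+ (α → k) :=
    { toFun := fun c a => ∑ h : H, ZMod.castHom (dvd_refl p) k (c h) * v (h⁻¹ • a)
      map_zero' := by ext a; simp
      map_add' := fun c d => by ext a; simp [add_mul, Finset.sum_add_distrib] }
  have hΦ : ∀ c, Φ c = fun a => ∑ h : H, ZMod.castHom (dvd_refl p) k (c h) * v (h⁻¹ • a) :=
    fun c => rfl
  have hvS : v ∈ Φ.range := by
    refine ⟨Pi.single 1 1, ?_⟩
    rw [hΦ]
    ext a
    rw [Finset.sum_eq_single (1 : H)]
    · simp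
    · intro b _ hb
      simp [hb]
    · simp
  have hSK : ∀ f ∈ Φ.range, f ∈ K := by
    rintro _ ⟨c, rfl⟩
    rw [hΦ, show (fun a => ∑ h : H, ZMod.castHom (dvd_refl p) k (c h) * v (h⁻¹ • a)) =
      ∑ h : H, ZMod.castHom (dvd_refl p) k (c h) • (fun a => v (h⁻¹ • a)) by ext a; simp]
    exact K.sum_mem fun h _ => K.smul_mem _ (hK h v hv)
  have hmem : ∀ (g : H), ∀ f ∈ Φ.range, (fun a => f (g⁻¹ • a)) ∈ Φ.range := by
    rintro g _ ⟨c, rfl⟩
    refine ⟨fun h => c (g⁻¹ * h), ?_⟩
    ext a
    simp only [hΦ]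
    refine (Fintype.sum_equiv (Equiv.mulLeft g) _ _ fun h => ?_).symm
    simp [mul_smul, mul_inv_rev]
  let S := Φ.range
  letI : MulAction H S :=
    { smul := fun g f => ⟨fun a => (f : α → k) (g⁻¹ • a), hmem g f f.2⟩
      one_smul := fun f => Subtype.ext (funext fun a => by
        show (f : α → k) ((1 : H)⁻¹ • a) = _
        rw [inv_one, one_smul])
      mul_smul := fun g g' f => Subtype.ext (funext fun a => by
        show (f : α → k) ((g * g')⁻¹ • a) = (f : α → k) (g'⁻¹ • g⁻¹ • a)
        rw [mul_inv_rev, mul_smul]) }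
  have hsmul : ∀ (g : H) (f : S) (a : α), ((g • f : S) : α → k) a = (f : α → k) (g⁻¹ • a) :=
    fun g f a => rfl
  haveI : Finite S := Finite.of_surjective Φ.rangeRestrict Φ.rangeRestrict_surjective
  have hdvd : p ∣ Nat.card S := by
    have h0 : (⟨v, hvS⟩ : S) ≠ 0 := fun h => hv0 (congrArg Subtype.val h)
    have hp : p • (⟨v, hvS⟩ : S) = 0 := Subtype.ext (by
      show ((p • (⟨v, hvS⟩ : S) : S) : α → k) = 0
      rw [AddSubgroup.coe_nsmul]
      show p • v = 0
      ext a
      rw [Pi.smul_apply, nsmul_eq_mul, CharP.cast_eq_zero k p, zero_mul]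
      rfl)
    rw [← addOrderOf_eq_prime hp h0]
    exact addOrderOf_dvd_natCard _
  have hzero : (0 : S) ∈ MulAction.fixedPoints H S := fun g => Subtype.ext rfl
  obtain ⟨f, hf, hne⟩ := hH.exists_fixed_point_of_prime_dvd_card_of_fixed_point S hdvd hzero
  refine ⟨f, hSK _ f.2, fun h => hne (Subtype.ext h.symm), fun g a => ?_⟩
  have := congrArg (fun x : S => (x : α → k) (g • a)) (hf g)
  simp only [hsmul, inv_smul_smul] at this
  exact this.symm

variable [Fintype G] {M : Ideal AlgInt} [hMp : M.IsPrime]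

local notation "kG" => MonoidAlgebra (H20.k M) G
local notation "gG" => MonoidAlgebra.of (H20.k M) G

variable {p : ℕ} [Fact p.Prime] [CharP (H20.k M) p] [IsAlgClosed (H20.k M)]

/-- Independent translates of the block idempotent number at most `∑ χ(1)²`. -/
theorem card_le_degree_sq {B : Set (IrrCharacter G)} (hB : IsPBlock M B) {ι : Type*} [Fintype ι]
    [DecidableEq ι] (f : ι → G)
    (hli : LinearIndependent (H20.k M) fun i => eB M B * gG (f i)) :
    Fintype.card ι ≤ ∑ᶠ χ ∈ B, charDegree (χ : G → ℂ) ^ 2 := by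
  classical
  -- the complex projection
  let e : G → ℂ := blockCoeff B
  have hconv : ∀ j l : G, ∑ h : G, e (j * h⁻¹) * e (h * l⁻¹) = e (j * l⁻¹) := by
    intro j l
    obtain ⟨F, hF, -, -, hco⟩ := exists_lift_eB (M := M) hB
    have h := congrArg (fun a => (a.coeff (j * l⁻¹) : ℂ)) hF
    simp only [H20.coeff_mul_group, AddSubmonoidClass.coe_finsetSum, MulMemClass.coe_mul, hco] at h
    show _ = blockCoeff B (j * l⁻¹)
    rw [← h]
    refine Fintype.sum_equiv ((Equiv.inv G).trans (Equiv.mulLeft j)) _ _ fun h => ?_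
    simp [e, mul_assoc]
  let E : Matrix G G ℂ := Matrix.of fun j h => e (j * h⁻¹)
  have hEE : E * E = E := by
    ext j l
    simp only [Matrix.mul_apply, E, Matrix.of_apply, hconv]
  let L := Matrix.toLin' E
  have hLL : ∀ v, L (L v) = L v := fun v => by
    simp only [L, Matrix.toLin'_apply, Matrix.mulVec_mulVec, hEE]
  have hproj : LinearMap.IsProj (LinearMap.range L) L :=
    ⟨fun x => LinearMap.mem_range_self L x, fun x hx => by
      obtain ⟨y, rfl⟩ := hx
      exact hLL y⟩
  have hrank : Module.finrank ℂ (LinearMap.range L) = ∑ᶠ χ ∈ B, charDegree (χ : G → ℂ) ^ 2 := by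
    have h1 : LinearMap.trace ℂ _ L = (Module.finrank ℂ (LinearMap.range L) : ℂ) := hproj.trace
    have h2 : LinearMap.trace ℂ _ L = (Fintype.card G : ℂ) * e 1 := by
      simp [L, Matrix.trace_toLin'_eq, Matrix.trace, E]
    have h3 : (Fintype.card G : ℂ) * e 1 =
        ((∑ᶠ χ ∈ B, charDegree (χ : G → ℂ) ^ 2 : ℕ) : ℂ) := by
      have hfin : B.Finite := Set.toFinite B
      simp only [e, blockCoeff, finsum_mem_eq_finite_toFinset_sum _ hfin, Nat.card_eq_fintype_card]
      rw [← mul_assoc, mul_inv_cancel₀ (Nat.cast_ne_zero.2 Fintype.card_ne_zero), one_mul,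
        Nat.cast_sum]
      refine Finset.sum_congr rfl fun χ _ => ?_
      rw [H22.irr_one_eq_charDegree, Complex.conj_natCast, Nat.cast_pow, sq]
    exact_mod_cast h1.symm.trans (h2.trans h3)
  rw [← hrank]
  -- the columns over the local ring
  let Co : Matrix G ι (H20.O M) :=
    Matrix.of fun j i => ⟨e (j * (f i)⁻¹), H20.memRing_blockCoeff hB _⟩
  have hcol : ∀ i j, (eB M B * (gG (f i) : kG)).coeff j = (Co.map (H20.red M)) j i := by
    intro i j
    rw [MonoidAlgebra.of_apply, H20.coeff_mul_single_one, H20.coeff_eRed,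
      Matrix.map_apply, H20.redC_of_mem (H20.memRing_blockCoeff hB _)]
    rfl
  have hinj : Function.Injective (Matrix.mulVec (Co.map (H20.red M))) := by
    intro v w hvw
    rw [Fintype.linearIndependent_iff] at hli
    have := hli (v - w) (by
      ext j
      have hj := congrFun hvw j
      simp only [Matrix.mulVec, dotProduct] at hj
      simp only [MonoidAlgebra.coeff_sum, Finsupp.coe_finset_sum, Finset.sum_apply,
        MonoidAlgebra.coeff_smul, Finsupp.coe_smul, Pi.smul_apply, smul_eq_mul, hcol, Pi.sub_apply,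
        sub_mul, Finset.sum_sub_distrib, MonoidAlgebra.coeff_zero, Finsupp.coe_zero, Pi.zero_apply]
      rw [sub_eq_zero]
      exact (Finset.sum_congr rfl fun i _ => mul_comm _ _).trans
        (hj.trans (Finset.sum_congr rfl fun i _ => mul_comm _ _)))
    exact funext fun i => sub_eq_zero.1 (this i)
  obtain ⟨g, hg⟩ := (Matrix.mulVecLin (Co.map (H20.red M))).exists_leftInverse_of_injective
    (LinearMap.ker_eq_bot.2 hinj)
  let Lk : Matrix ι G (H20.k M) := LinearMap.toMatrix' g
  have hLk : Lk * Co.map (H20.red M) = 1 := by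
    rw [← LinearMap.toMatrix'_id, ← hg, LinearMap.toMatrix'_comp]
    rw [← Matrix.toLin'_apply', LinearMap.toMatrix'_toLin']
  choose lift hlift using H20.red_surjective (M := M)
  let Lo : Matrix ι G (H20.O M) := Lk.map lift
  have hu : IsUnit (Lo * Co) := H20.isUnit_of_map_eq_one (by
    rw [Matrix.map_mul, show Lo.map (H20.red M) = Lk by ext i j; simp [Lo, hlift], hLk])
  obtain ⟨U, hU⟩ := hu
  let Cc : Matrix G ι ℂ := Co.map (H20.O M).subtype
  let Lc : Matrix ι G ℂ := ((↑U⁻¹ : Matrix ι ι (H20.O M)) * Lo).map (H20.O M).subtype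
  have hLc : Lc * Cc = 1 := by
    rw [← Matrix.map_mul, Matrix.mul_assoc, ← hU, Units.inv_mul]
    exact Matrix.map_one _ (map_zero _) (map_one _)
  have hsub : ∀ v : ι → ℂ, Cc.mulVec v ∈ LinearMap.range L := by
    intro v
    refine ⟨Cc.mulVec v, ?_⟩
    simp only [L, Matrix.toLin'_apply, Matrix.mulVec_mulVec]
    congr 1
    ext j i
    simp only [Matrix.mul_apply, E, Cc, Co, Matrix.of_apply, Matrix.map_apply]
    exact hconv j (f i)
  have hinjC : Function.Injective ((Matrix.mulVecLin Cc).codRestrict (LinearMap.range L) hsub) := by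
    intro v w h
    have h' : Cc.mulVec v = Cc.mulVec w := congrArg Subtype.val h
    have := congrArg (Lc.mulVec ·) h'
    simpa [Matrix.mulVec_mulVec, hLc] using this
  have := LinearMap.finrank_le_finrank_of_injective hinjC
  simpa using this

end H23
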