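import Cfsg.Agent.H23.MinDimBase

/-!
# The dense double coset
-/

set_option autoImplicit false
set_option linter.style.haveILetI false
set_option linter.unusedSectionVars false
set_option maxHeartbeats 400000

open Cfsg
open scoped MonoidAlgebra ComplexConjugate

namespace H23

universe u

variable {G : Type u} [Group G] [Fintype G] {M : Ideal AlgInt} [hMp : M.IsPrime]
  {p : ℕ} [Fact p.Prime] [CharP (H20.k M) p] [IsAlgClosed (H20.k M)]

attribute [local instance] lrAct

local notation "kG" => MonoidAlgebra (H20.k M) G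
local notation "gG" => MonoidAlgebra.of (H20.k M) G

theorem coeff_sum_apply {ι : Type*} (s : Finset ι) (f : ι → kG) (g : G) :
    (∑ i ∈ s, f i).coeff g = ∑ i ∈ s, (f i).coeff g := by
  simp [MonoidAlgebra.coeff_sum, Finsupp.coe_finsetSum]

/-- A nonzero block of `k[G]` is not killed by the sum over a `p`-subgroup. -/
theorem exists_sum_coset_ne_zero {B : Set (IrrCharacter G)} (hB : IsPBlock M B) {P : Subgroup G} [Fintype P]
    (hP : IsPGroup p P) :
    eB M B * (∑ u : P, gG (u : G)) ≠ (0 : kG) := by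
  classical
  intro h0
  set b : kG := eB M B with hb
  have hbb : b * b = b := H20.eRed_mul_self hB
  -- the functions fixed by the block idempotent
  let T : (G → H20.k M) →ₗ[H20.k M] (G → H20.k M) :=
    { toFun := fun v => (b * H20.ofFun v).coeff
      map_add' := fun v w => by
        rw [show H20.ofFun (v + w) = H20.ofFun v + H20.ofFun w by ext; simp, mul_add,
          MonoidAlgebra.coeff_add, Finsupp.coe_add]
      map_smul' := fun c v => by
        rw [show H20.ofFun (c • v) = c • H20.ofFun v by ext; simp, mul_smul_comm,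
          MonoidAlgebra.coeff_smul, Finsupp.coe_smul]
        rfl }
  let K := LinearMap.ker (T - LinearMap.id)
  have hKmem : ∀ v, v ∈ K ↔ b * H20.ofFun v = H20.ofFun v := by
    intro v
    simp only [K, LinearMap.mem_ker, LinearMap.sub_apply, LinearMap.id_coe, id_eq, sub_eq_zero]
    constructor
    · intro h
      ext g
      exact congrFun h g
    · intro h
      show ⇑(b * H20.ofFun v).coeff = v
      rw [h]
      rfl
  letI : MulAction P G := MulAction.compHom G
    ((MonoidHom.inr G G).comp P.subtype)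
  have hact : ∀ (u : P) (x : G), u • x = x * (u : G)⁻¹ := fun u x => by
    show (1 : G) * x * (u : G)⁻¹ = _
    rw [one_mul]
  have hK : ∀ (u : P), ∀ v ∈ K, (fun a => v (u⁻¹ • a)) ∈ K := by
    intro u v hv
    rw [hKmem] at hv ⊢
    have : H20.ofFun (fun a => v (u⁻¹ • a)) = H20.ofFun v * gG ((u : G)⁻¹) := by
      ext a
      rw [MonoidAlgebra.of_apply, H20.coeff_mul_single_one]
      simp [hact]
    rw [this, ← mul_assoc, hv]
  have hbK : (fun g => b.coeff g) ∈ K := by
    rw [hKmem, show H20.ofFun (fun g => b.coeff g) = b by ext; simp]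
    exact hbb
  have hb0 : (fun g => b.coeff g) ≠ 0 := fun h =>
    (isBlk_eB (M := M) hB).ne_zero (by ext g; simpa using congrFun h g)
  obtain ⟨v, hvK, hv0, hvinv⟩ := exists_invariant (p := p) hP K hK hbK hb0
  rw [hKmem] at hvK
  apply hv0
  let w : kG := ∑ q : G ⧸ P, v q.out • gG q.out
  have hvw : H20.ofFun v = w * ∑ u : P, gG (u : G) := by
    ext g
    rw [H20.coeff_ofFun, Finset.mul_sum, coeff_sum_apply]
    have hterm : ∀ u : P, (w * gG (u : G)).coeff g =
        ∑ q : G ⧸ P, if q.out = g * (u : G)⁻¹ then v q.out else 0 := fun u => by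
      rw [MonoidAlgebra.of_apply, H20.coeff_mul_single_one]
      simp only [w]
      rw [coeff_sum_apply]
      refine Finset.sum_congr rfl fun q _ => ?_
      simp [Finsupp.single_apply]
    rw [Finset.sum_congr rfl fun u _ => hterm u, Finset.sum_comm]
    have hmk : (g : G ⧸ P).out⁻¹ * g ∈ P := QuotientGroup.eq.1 (Quotient.out_eq (g : G ⧸ P))
    rw [Finset.sum_eq_single (g : G ⧸ P)]
    · rw [Finset.sum_eq_single (⟨_, hmk⟩ : P)]
      · rw [if_pos (by group)]
        have := hvinv (⟨_, hmk⟩ : P) g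
        rw [hact] at this
        rw [← this]
        congr 1
        group
      · intro u _ hu
        rw [if_neg]
        intro h
        exact hu (Subtype.ext (show (u : G) = _ by simp [h, mul_inv_rev]))
      · simp
    · intro q _ hq
      refine Finset.sum_eq_zero fun u _ => if_neg fun h => hq ?_
      conv_lhs => rw [← Quotient.out_eq q]
      exact QuotientGroup.eq.2 (by rw [h]; simp)
    · simp
  have hcomm : b * w = w * b := (H20.isCl_eRed B).commute w
  rw [hvw, ← mul_assoc, hcomm, mul_assoc, h0, mul_zero] at hvK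
  rw [← hvw] at hvK
  ext g
  have := congrArg (fun a => a.coeff g) hvK
  simpa using this.symm

/-- The coefficients of the product of a class sum with the sum over a subgroup. -/
theorem coeff_mul_sumSub (b : kG) (P : Subgroup G) [Fintype P] (g : G) :
    (b * ∑ u : P, gG (u : G)).coeff g = ∑ u : P, b.coeff (g * (u : G)⁻¹) := by
  rw [Finset.mul_sum, coeff_sum_apply]
  exact Finset.sum_congr rfl fun u _ => by
    rw [MonoidAlgebra.of_apply, H20.coeff_mul_single_one]

/-- The product is constant on the double cosets. -/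
theorem coeff_mul_sumSub_smul {b : kG} (hcl : H20.IsCl b) {P : Subgroup G} [Fintype P]
    (h : P.prod P) (g : G) :
    (b * ∑ u : P, gG (u : G)).coeff (h • g) = (b * ∑ u : P, gG (u : G)).coeff g := by
  obtain ⟨⟨s, t⟩, hs, ht⟩ := h
  rw [coeff_mul_sumSub, coeff_mul_sumSub]
  refine Fintype.sum_equiv
    ((Equiv.mulRight (⟨t, ht⟩ : P)).trans (Equiv.mulLeft (⟨s, hs⟩ : P)⁻¹)) _ _ fun u => ?_
  rw [← hcl ((⟨(s, t), hs, ht⟩ : P.prod P) • g * (u : G)⁻¹) s⁻¹, sub_lr_smul]
  congr 1
  simp only [Equiv.trans_apply, Equiv.coe_mulRight, Equiv.coe_mulLeft, Subgroup.coe_mul,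
    InvMemClass.coe_inv]
  group

open scoped Classical in
/-- Some double coset sum meeting the product is not killed by `b`. -/
theorem exists_orbit_sum {b : kG} (hcl : H20.IsCl b) (hbb : b * b = b) {P : Subgroup G} [Fintype P]
    (h0 : b * (∑ u : P, gG (u : G)) ≠ 0) :
    ∃ g, (b * ∑ u : P, gG (u : G)).coeff g ≠ 0 ∧
      b * (∑ i : MulAction.orbit (P.prod P) g, gG (i : G)) ≠ 0 := by
  set Z : kG := b * ∑ u : P, gG (u : G) with hZ
  have hbZ : b * Z = Z := by rw [hZ, ← mul_assoc, hbb]
  let q : G → MulAction.orbitRel.Quotient (P.prod P) G := Quotient.mk''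
  have hsum : Z = ∑ g : G, Z.coeff g • gG g := by
    ext x
    rw [coeff_sum_apply]
    simp [Finsupp.single_apply]
  have hsplit : Z = ∑ w, ∑ g ∈ Finset.univ.filter (fun g => q g = w), Z.coeff g • (b * gG g) := by
    rw [Finset.sum_fiberwise]
    conv_lhs => rw [← hbZ, hsum]
    rw [Finset.mul_sum]
    exact Finset.sum_congr rfl fun g _ => mul_smul_comm _ _ _
  obtain ⟨w, -, hw⟩ := Finset.exists_ne_zero_of_sum_ne_zero (ne_of_eq_of_ne hsplit.symm h0)
  obtain ⟨g, hg, hgne⟩ := Finset.exists_ne_zero_of_sum_ne_zero hw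
  simp only [Finset.mem_filter, Finset.mem_univ, true_and] at hg
  refine ⟨g, fun h => hgne (by rw [h, zero_smul]), fun hO => hw ?_⟩
  have hset : ∀ z : G, q z = w ↔ z ∈ MulAction.orbit (P.prod P) g := fun z => by
    rw [← hg]
    exact Quotient.eq''
  rw [Finset.sum_subtype (p := fun z => z ∈ MulAction.orbit (P.prod P) g) _
    (fun z => by simp [hset z]) (fun z => Z.coeff z • (b * gG z))]
  have hconst : ∀ i : MulAction.orbit (P.prod P) g,
      Z.coeff (i : G) • (b * gG (i : G)) = Z.coeff g • (b * gG (i : G)) := by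
    rintro ⟨_, h, rfl⟩
    show Z.coeff (h • g) • _ = _
    rw [hZ, coeff_mul_sumSub_smul hcl h g]
  rw [Finset.sum_congr rfl (fun i _ => hconst i), ← Finset.smul_sum, ← Finset.mul_sum, hO,
    smul_zero]

/-- A coset where the product does not vanish contains a good point for the defect group. -/
theorem exists_fixed_in_coset {b : kG} (hcl : H20.IsCl b) {P D : Subgroup G} [Fintype P]
    (hP : IsPGroup p P) (hdef : DefLE p ⊤ D b) {g : G}
    (hg : (b * ∑ u : P, gG (u : G)).coeff g ≠ 0) :
    ∃ x, g⁻¹ * x ∈ P ∧ (∀ s ∈ P, x⁻¹ * s * x ∈ P → s * x = x * s) ∧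
      Nat.card (P ⊓ cjS g P : Subgroup G) ≤ Nat.card D := by
  classical
  let Y : Subgroup G := P ⊓ cjS g P
  have hY : IsPGroup p Y := hP.to_le inf_le_left
  letI : MulAction Y G :=
    MulAction.compHom G ((MonoidHom.prod (MonoidHom.id G) (MonoidHom.id G)).comp Y.subtype)
  have hYact : ∀ (y : Y) (z : G), y • z = (y : G) * z * (y : G)⁻¹ := fun y z => rfl
  let F : G → H20.k M := fun z => if g⁻¹ * z ∈ P then b.coeff z else 0
  have hFinv : ∀ (y : Y) (z : G), F (y • z) = F z := by
    intro y z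
    have hy1 : g⁻¹ * (y : G) * g ∈ P := mem_cjS.1 y.2.2
    simp only [F, hYact]
    rw [hcl z (y : G), show g⁻¹ * ((y : G) * z * (y : G)⁻¹) =
      (g⁻¹ * (y : G) * g) * (g⁻¹ * z) * (y : G)⁻¹ by group]
    simp only [P.mul_mem_cancel_right (P.inv_mem y.2.1), P.mul_mem_cancel_left hy1]
  have hFsum : ∑ z, F z = ∑ u : P, b.coeff (g * (u : G)⁻¹) := by
    rw [show ∑ z, F z = ∑ z ∈ Finset.univ.filter (fun z => g⁻¹ * z ∈ P), b.coeff z from
      (Finset.sum_filter _ _).symm]
    refine Finset.sum_bij' (fun z hz => (⟨g⁻¹ * z, (Finset.mem_filter.1 hz).2⟩ : P)⁻¹)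
      (fun u _ => g * (u : G)⁻¹) (fun _ _ => Finset.mem_univ _)
      (fun u _ => Finset.mem_filter.2 ⟨Finset.mem_univ _, by simp⟩)
      (fun z hz => by simp) (fun u _ => Subtype.ext (by simp)) (fun z hz => by simp)
  rw [coeff_mul_sumSub, ← hFsum, sum_eq_sum_fixedPoints p hY F hFinv] at hg
  obtain ⟨x, hx, hxne⟩ := Finset.exists_ne_zero_of_sum_ne_zero hg
  simp only [Finset.mem_filter, Finset.mem_univ, true_and] at hx
  by_cases hxP : g⁻¹ * x ∈ P
  swap
  · exact absurd (if_neg hxP) hxne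
  have hxb : b.coeff x ≠ 0 := fun h => hxne ((if_pos hxP).trans h)
  have hxc : ∀ s ∈ Y, s * x = x * s := fun s hs =>
    eq_mul_of_mul_inv_eq (hx (⟨s, hs⟩ : Y))
  refine ⟨x, hxP, fun s hs hsx => hxc s ⟨hs, mem_cjS.2 ?_⟩, ?_⟩
  · have := P.mul_mem (P.mul_mem hxP hsx) (P.inv_mem hxP)
    rwa [show g⁻¹ * x * (x⁻¹ * s * x) * (g⁻¹ * x)⁻¹ = g⁻¹ * s * g by group] at this
  · obtain ⟨c, -, hc⟩ := hdef x hxb Y hY le_top fun s hs =>
      mem_centralizer_singleton.2 (hxc s hs).symm
    exact (Subgroup.card_le_of_le hc).trans_eq (card_cjS c D)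

/-- The size of a double coset. -/
theorem card_orbit_bound {P : Subgroup G} {g x : G} (hxP : g⁻¹ * x ∈ P)
    (hcomm : ∀ s ∈ P, x⁻¹ * s * x ∈ P → s * x = x * s) :
    Nat.card P * Nat.card P ≤
      Nat.card (P ⊓ cjS g P : Subgroup G) * Nat.card (MulAction.orbit (P.prod P) x) := by
  set Y : Subgroup G := P ⊓ cjS g P
  let φ : MulAction.stabilizer (P.prod P) x → Y := fun h =>
    ⟨((h : P.prod P) : G × G).1, (h : P.prod P).2.1, mem_cjS.2 (by
      have hst : ((h : P.prod P) : G × G).1 * x * ((h : P.prod P) : G × G).2⁻¹ = x :=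
        MulAction.mem_stabilizer_iff.1 h.2
      set s := ((h : P.prod P) : G × G).1
      set t := ((h : P.prod P) : G × G).2
      have ht : t ∈ P := (h : P.prod P).2.2
      have htt : x⁻¹ * s * x = t := by rw [mul_assoc, eq_mul_of_mul_inv_eq hst, inv_mul_cancel_left]
      have := P.mul_mem (P.mul_mem hxP ht) (P.inv_mem hxP)
      rwa [← htt, show g⁻¹ * x * (x⁻¹ * s * x) * (g⁻¹ * x)⁻¹ = g⁻¹ * s * g by group] at this)⟩
  have hφ : Function.Injective φ := by
    rintro ⟨⟨⟨s, t⟩, hs, ht⟩, hst⟩ ⟨⟨⟨s', t'⟩, hs', ht'⟩, hst'⟩ h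
    have h1 : s = s' := congrArg (fun y : Y => (y : G)) h
    have hst1 : s * x * t⁻¹ = x := MulAction.mem_stabilizer_iff.1 hst
    have hst2 : s' * x * t'⁻¹ = x := MulAction.mem_stabilizer_iff.1 hst'
    subst h1
    have : t = t' := mul_left_cancel
      ((eq_mul_of_mul_inv_eq hst1).symm.trans (eq_mul_of_mul_inv_eq hst2))
    exact Subtype.ext (Subtype.ext (Prod.ext rfl this))
  have h1 : Nat.card (P.prod P) = Nat.card P * Nat.card P := by
    rw [Nat.card_congr (Subgroup.prodEquiv P P).toEquiv, Nat.card_prod]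
  rw [← h1, ← Nat.card_congr (MulAction.orbitProdStabilizerEquivGroup (P.prod P) x), Nat.card_prod,
    mul_comm]
  exact Nat.mul_le_mul_right _ (Nat.card_le_card_of_injective φ hφ)

open scoped Classical in
/-- A nonzero orbit sum gives independent translates. -/
theorem linearIndependent_orbit {b : kG} (hcl : H20.IsCl b) {P : Subgroup G} (hP : IsPGroup p P)
    {x : G} (h0 : b * (∑ i : MulAction.orbit (P.prod P) x, gG (i : G)) ≠ 0) :
    LinearIndependent (H20.k M) (fun i : MulAction.orbit (P.prod P) x => b * gG (i : G)) := by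
  let Λ : (MulAction.orbit (P.prod P) x → H20.k M) →ₗ[H20.k M] kG :=
    Fintype.linearCombination (H20.k M) (fun i => b * gG (i : G))
  have hΛ : ∀ l, Λ l = ∑ i, l i • (b * gG (i : G)) := fun l => rfl
  rw [Fintype.linearIndependent_iff]
  intro l hl
  by_contra hne
  push Not at hne
  have hl' : l ∈ LinearMap.ker Λ := by rw [LinearMap.mem_ker, hΛ]; exact hl
  have hKinv : ∀ (h : P.prod P), ∀ f ∈ LinearMap.ker Λ,
      (fun a => f (h⁻¹ • a)) ∈ LinearMap.ker Λ := by
    intro h f hf
    rw [LinearMap.mem_ker] at hf ⊢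
    have key : gG (h : G × G).1 * Λ f * gG (h : G × G).2⁻¹ = Λ (fun a => f (h⁻¹ • a)) := by
      rw [hΛ, hΛ, Finset.mul_sum, Finset.sum_mul]
      refine Fintype.sum_equiv (MulAction.toPerm h) _ _ fun i => ?_
      simp only [MulAction.toPerm_apply, inv_smul_smul, mul_smul_comm, smul_mul_assoc]
      rw [← mul_assoc (gG (h : G × G).1) b, ← (hcl.commute (gG (h : G × G).1)).eq,
        MulAction.orbit.coe_smul, sub_lr_smul, map_mul, map_mul]
      simp only [mul_assoc]
    rw [← key, hf, mul_zero, zero_mul]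
  obtain ⟨i₀, hi₀⟩ := hne
  obtain ⟨f, hf, hf0, hfinv⟩ := exists_invariant (p := p) (isPGroup_prod hP) _ hKinv hl'
    (fun h => hi₀ (congrFun h i₀))
  have hconst : ∀ i, f i = f ⟨x, MulAction.mem_orbit_self x⟩ := by
    intro i
    obtain ⟨h, hh⟩ := MulAction.exists_smul_eq (P.prod P)
      (⟨x, MulAction.mem_orbit_self x⟩ : MulAction.orbit (P.prod P) x) i
    rw [← hh, hfinv]
  have hf00 : f ⟨x, MulAction.mem_orbit_self x⟩ ≠ 0 := fun h =>
    hf0 (funext fun i => (hconst i).trans h)
  rw [LinearMap.mem_ker, hΛ, Finset.sum_congr rfl (fun i _ => by rw [hconst i]),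
    ← Finset.smul_sum, ← Finset.mul_sum, smul_eq_zero] at hf
  exact h0 (hf.resolve_left hf00)

/-- The dense double coset. -/
theorem exists_double_coset {B : Set (IrrCharacter G)} (hB : IsPBlock M B) {P D : Subgroup G}
    (hP : IsPGroup p P) (hdef : DefLE p ⊤ D (eB M B)) :
    ∃ x : G, (∀ s ∈ P, x⁻¹ * s * x ∈ P → s * x = x * s) ∧
      Nat.card P * Nat.card P ≤ Nat.card D * Nat.card (MulAction.orbit (P.prod P) x) ∧
      LinearIndependent (H20.k M)
        (fun i : MulAction.orbit (P.prod P) x => eB M B * gG (i : G)) := by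
  classical
  have hcl : H20.IsCl (eB M B) := H20.isCl_eRed B
  obtain ⟨g, hg, hO⟩ := exists_orbit_sum hcl (H20.eRed_mul_self hB)
    (exists_sum_coset_ne_zero hB hP)
  obtain ⟨x, hxP, hcomm, hY⟩ := exists_fixed_in_coset hcl hP hdef hg
  refine ⟨x, hcomm, (card_orbit_bound hxP hcomm).trans (Nat.mul_le_mul_right _ hY),
    linearIndependent_orbit hcl hP ?_⟩
  have hgx : (⟨((1 : G), (g⁻¹ * x)⁻¹), P.one_mem, P.inv_mem hxP⟩ : P.prod P) • g = x := by
    rw [sub_lr_smul]; simp
  have horb : MulAction.orbit (P.prod P) x = MulAction.orbit (P.prod P) g := by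
    rw [← hgx, MulAction.orbit_smul]
  rwa [show (∑ i : MulAction.orbit (P.prod P) x, gG (i : G)) =
    ∑ i : MulAction.orbit (P.prod P) g, gG (i : G) from
    Fintype.sum_equiv (Equiv.setCongr horb) _ _ fun i => rfl]

end H23
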