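import Cfsg.Agent.H23.IdemTrace
import Cfsg.Agent.H23.RelTr
import Cfsg.Agent.H14.BrauerInduction
import Cfsg.Agent.H14.HallTransfer
import Cfsg.Agent.H12.Monomial
import Cfsg.Agent.H33.Basic

/-!
# The star construction of Broué and Puig is integral

`H23.starFn h χ` is `g ↦ ∑ b, h(g_p, b) χ(g e_b)`, the sum over the blocks `b` of `C(g_p)`.
`H23.isGeneralizedCharacter_starFn`: it is a generalised character as soon as `h` restricts, along
the subpairs of each pair `(R, f)`, to a generalised character of `R`.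
-/

set_option autoImplicit false
set_option linter.style.haveILetI false
set_option linter.unusedSectionVars false

open Cfsg
open scoped MonoidAlgebra ComplexConjugate

namespace H23

universe u

variable {G : Type u} [Group G] [Fintype G]

theorem exists_sup_mul {R S : Subgroup G} (hS : S ≤ Subgroup.centralizer (R : Set G)) {g : G}
    (hg : g ∈ R ⊔ S) : ∃ r ∈ R, ∃ s ∈ S, g = r * s := by
  rw [Subgroup.sup_eq_closure] at hg
  induction hg using Subgroup.closure_induction with
  | mem x hx =>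
    rcases hx with h | h
    · exact ⟨x, h, 1, S.one_mem, (mul_one x).symm⟩
    · exact ⟨1, R.one_mem, x, h, (one_mul x).symm⟩
  | one => exact ⟨1, R.one_mem, 1, S.one_mem, (mul_one 1).symm⟩
  | mul x y _ _ hx hy =>
    obtain ⟨r, hr, s, hs, rfl⟩ := hx
    obtain ⟨r', hr', s', hs', rfl⟩ := hy
    refine ⟨r * r', R.mul_mem hr hr', s * s', S.mul_mem hs hs', ?_⟩
    have hc : r' * s = s * r' := Subgroup.mem_centralizer_iff.1 (hS hs) r' hr'
    rw [mul_assoc r s, ← mul_assoc s r', ← hc]
    group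
  | inv x _ hx =>
    obtain ⟨r, hr, s, hs, rfl⟩ := hx
    refine ⟨r⁻¹, R.inv_mem hr, s⁻¹, S.inv_mem hs, ?_⟩
    rw [show r * s = s * r from Subgroup.mem_centralizer_iff.1 (hS hs) r hr, mul_inv_rev]

variable {p : ℕ} [hp : Fact p.Prime]

/-- In `R × S` the `p`-part lies in `R`. -/
theorem pPart_of_mul {R S : Subgroup G} (hR : IsPGroup p R)
    (hS : S ≤ Subgroup.centralizer (R : Set G)) (hSp : ¬ p ∣ Nat.card S) {r s : G} (hr : r ∈ R)
    (hs : s ∈ S) : H20.pPart p (r * s) = r := by
  refine (H20.isPPart_iff.1 ⟨s, rfl, Subgroup.mem_centralizer_iff.1 (hS hs) r hr, ?_, ?_⟩).symm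
  · obtain ⟨j, hj⟩ := IsPGroup.iff_orderOf.1 hR ⟨r, hr⟩
    exact ⟨j, by rw [← hj]; exact orderOf_injective R.subtype Subtype.val_injective ⟨r, hr⟩⟩
  · exact fun hd => hSp (hd.trans (S.orderOf_dvd_natCard hs))

variable {M : Ideal AlgInt} [hMp : M.IsPrime] [CharP (H20.k M) p] [IsAlgClosed (H20.k M)]

local notation "kG" => MonoidAlgebra (H20.k M) G

variable (M) in
/-- The blocks of `C(u)`. -/
noncomputable def Bls (u : G) : Finset (MonoidAlgebra (H20.k M) G) :=
  (exists_blocks (K := H20.k M) (Subgroup.centralizer (Subgroup.zpowers u : Set G))).choose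

theorem mem_Bls {u : G} {b : kG} :
    b ∈ Bls M u ↔ IsBlk (Subgroup.centralizer (Subgroup.zpowers u : Set G)) b :=
  (exists_blocks (K := H20.k M) (Subgroup.centralizer (Subgroup.zpowers u : Set G))).choose_spec.1 b

theorem sum_Bls (u : G) : ∑ b ∈ Bls M u, b = (1 : kG) :=
  (exists_blocks (K := H20.k M) (Subgroup.centralizer (Subgroup.zpowers u : Set G))).choose_spec.2

theorem cjS_zpowers (x u : G) :
    cjS x (Subgroup.zpowers u) = Subgroup.zpowers (x * u * x⁻¹) := by
  unfold cjS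
  rw [MonoidHom.map_zpowers]
  rfl

theorem cj_mem_Bls {u : G} {b : kG} (hb : b ∈ Bls M u) (x : G) :
    cj x b ∈ Bls M (x * u * x⁻¹) := by
  rw [mem_Bls, ← cjS_zpowers, ← cjS_centralizer]
  exact (mem_Bls.1 hb).cj x

theorem mem_centralizer_pPart (g : G) :
    g ∈ Subgroup.centralizer (Subgroup.zpowers (H20.pPart p g) : Set G) := by
  rw [Subgroup.mem_centralizer_iff]
  intro y hy
  obtain ⟨n, rfl⟩ := Subgroup.mem_zpowers_iff.1 hy
  exact (((Commute.refl g).pow_left (H20.pExp p (orderOf g))).zpow_left n).eq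

theorem isId_blk_mul {g : G} {b a : kG} (hb : b ∈ Bls M (H20.pPart p g)) (ha : IsId g a) :
    IsId g (b * Br (Subgroup.zpowers (H20.pPart p g)) a) := by
  have hb' := (mem_Bls.1 hb).cidem
  refine ⟨?_, by rw [map_mul, isFix_iff_cj.1 hb'.fix g (mem_centralizer_pPart g), cj_Br_pPart ha.fix]⟩
  have hc : b * Br (Subgroup.zpowers (H20.pPart p g)) a =
      Br (Subgroup.zpowers (H20.pPart p g)) a * b := CIdem.comm hb'.fix hb'.supp (supp_Br _ _)
  conv_lhs => arg 2; rw [hc]
  rw [mul_assoc, ← mul_assoc (Br _ a), ha.Br.idem, ← hc, ← mul_assoc, hb'.idem]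

/-- The twisted value of `χ` at `g` on the idempotent `a`. -/
noncomputable def starVal (p : ℕ) (h : G → kG → ℂ) (χ : IrrCharacter G) (a : kG) (g : G) : ℂ :=
  ∑ b ∈ Bls M (H20.pPart p g),
    h (H20.pPart p g) b * T χ g (b * Br (Subgroup.zpowers (H20.pPart p g)) a)

/-- The star construction. -/
noncomputable def starFn (p : ℕ) (h : G → kG → ℂ) (χ : IrrCharacter G) (g : G) : ℂ :=
  starVal p h χ 1 g

variable {h : G → MonoidAlgebra (H20.k M) G → ℂ} {χ : IrrCharacter G}

/-- Invariance of a function on pairs. -/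
def HInv (h : G → kG → ℂ) : Prop := ∀ (x u : G) (b : kG), h (x * u * x⁻¹) (cj x b) = h u b

/-- Along the subpairs of every pair the function is a generalised character. -/
def HLocal (p : ℕ) (h : G → kG → ℂ) : Prop :=
  ∀ (R : Subgroup G) (f : kG), IsPair p R f → ∃ η : R → ℂ, IsGeneralizedCharacter R η ∧
    ∀ (q : R) (b : kG), Le p (Subgroup.zpowers (q : G), b) (R, f) → h q b = η q

theorem starVal_sum {g : G} {ι : Type*} (s : Finset ι) (a : ι → kG)
    (ha : ∀ l ∈ s, IsId g (a l)) (horth : ∀ l ∈ s, ∀ m ∈ s, l ≠ m → a l * a m = 0) :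
    starVal p h χ (∑ l ∈ s, a l) g = ∑ l ∈ s, starVal p h χ (a l) g := by
  simp only [starVal]
  rw [Finset.sum_comm]
  refine Finset.sum_congr rfl fun b hb => ?_
  rw [← Finset.mul_sum]
  congr 1
  rw [Br_sum, Finset.mul_sum, T_sum χ s _ (fun l hl => isId_blk_mul hb (ha l hl))]
  intro l hl m hm hne
  have hb' := (mem_Bls.1 hb).cidem
  rw [mul_assoc, ← mul_assoc (Br _ (a l)) b, ← CIdem.comm hb'.fix hb'.supp (supp_Br _ _),
    mul_assoc b, ← Br_fix_mul (ha l hl).fix (ha m hm).fix, horth l hl m hm hne, Br_zero, mul_zero,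
    mul_zero]

theorem starVal_equiv {g : G} {a b u v : kG} (ha : IsId g a) (hb : IsId g b)
    (hu : cj g u = u) (hv : cj g v = v) (huv : u * v = a) (hvu : v * u = b) :
    starVal p h χ a g = starVal p h χ b g := by
  refine Finset.sum_congr rfl fun c hc => ?_
  congr 1
  set B : kG → kG := Br (Subgroup.zpowers (H20.pPart p g)) with hB
  have hc' := (mem_Bls.1 hc).cidem
  have hcg : cj g c = c := isFix_iff_cj.1 hc'.fix g (mem_centralizer_pPart g)
  have key : ∀ {x y z : kG}, cj g x = x → cj g y = y → x * y = z → c * B x * (c * B y) = c * B z := by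
    intro x y z hx hy hxy
    rw [mul_assoc, ← mul_assoc (B x) c, ← CIdem.comm hc'.fix hc'.supp (supp_Br _ _), mul_assoc c,
      ← mul_assoc c c, hc'.idem, hB, ← Br_fix_mul hx hy, hxy]
  exact T_equiv χ (isId_blk_mul hc ha) (isId_blk_mul hc hb)
    (by rw [map_mul, hcg, hB, cj_Br_pPart hu]) (by rw [map_mul, hcg, hB, cj_Br_pPart hv])
    (key hu hv huv) (key hv hu hvu)

theorem starVal_cj (hh : HInv h) (x : G) {g : G} {a : kG} (ha : IsId g a) :
    starVal p h χ (cj x a) (x * g * x⁻¹) = starVal p h χ a g := by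
  simp only [starVal, H20.pPart_conj]
  set u := H20.pPart p g
  refine (Finset.sum_nbij' (fun b => cj x b) (fun b => cj x⁻¹ b) (fun b hb => cj_mem_Bls hb x)
    (fun b hb => ?_) (fun b _ => cj_inv_cancel x b) (fun b _ => cj_cancel_inv x b)
    (fun b hb => ?_)).symm
  · have := cj_mem_Bls hb x⁻¹
    rwa [show x⁻¹ * (x * u * x⁻¹) * x⁻¹⁻¹ = u by group] at this
  · rw [hh, ← cjS_zpowers, ← Br_cj, ← map_mul, T_cj χ x (isId_blk_mul hb ha)]

/-- The value on an element off the maximal subgroup vanishes. -/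
theorem starVal_eq_zero_of_tr {R S M₁ : Subgroup G} (hR : IsPGroup p R)
    (hS : S ≤ Subgroup.centralizer (R : Set G)) (hSp : ¬ p ∣ Nat.card S)
    (hM₁ : IsMaxSub p M₁ R) {i a : kG} (ha : IsFix (M₁ ⊔ S) a)
    (htr : ∀ x ∈ R, x ∉ M₁ → ∑ t ∈ Finset.range p, cj (x ^ t) a = i) {g : G} (hg : g ∈ R ⊔ S)
    (hgn : g ∉ M₁ ⊔ S) : starVal p h χ i g = 0 := by
  obtain ⟨r, hr, s, hs, rfl⟩ := exists_sup_mul hS hg
  have hrM : r ∉ M₁ := fun hh => hgn (Subgroup.mul_mem _ (Subgroup.mem_sup_left hh)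
    (Subgroup.mem_sup_right hs))
  have hu : H20.pPart p (r * s) = r := pPart_of_mul hR hS hSp hr hs
  refine Finset.sum_eq_zero fun b _ => ?_
  have hz : Br (Subgroup.zpowers (H20.pPart p (r * s))) i = 0 := by
    rw [hu, ← htr r hr hrM, Br_sum]
    ext y
    simp only [MonoidAlgebra.coeff_sum, Finsupp.finsetSum_apply]
    by_cases hy : y ∈ Subgroup.centralizer (Subgroup.zpowers r : Set G)
    · have hry := Subgroup.mem_centralizer_iff.1 hy
      have : ∀ t ∈ Finset.range p, (Br (Subgroup.zpowers r) (cj (r ^ t) a)).coeff y = a.coeff y := by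
        intro t _
        rw [coeff_Br_of_mem _ hy, coeff_cj, mul_assoc,
          ← hry (r ^ t) (pow_mem (Subgroup.mem_zpowers r) t), inv_mul_cancel_left]
      rw [Finset.sum_congr rfl this, Finset.sum_const, Finset.card_range, nsmul_eq_mul,
        CharP.cast_eq_zero, zero_mul]
      simp
    · rw [Finset.sum_eq_zero fun t _ => coeff_Br_of_notMem _ hy]
      simp
  rw [hz, mul_zero, T_zero, mul_zero]

/-- On an idempotent with non-zero image at `R` the value is a generalised character. -/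
theorem exists_genChar_starVal (hM : IsPModular p M) (hloc : HLocal p h) {R S : Subgroup G}
    (hR : IsPGroup p R) (hS : S ≤ Subgroup.centralizer (R : Set G)) (hSp : ¬ p ∣ Nat.card S)
    {i : fixSub (H20.k M) (R ⊔ S)} (hi : IsPrim i) (h0 : Br R (i : kG) ≠ 0) :
    IsGeneralizedCharacter (R ⊔ S : Subgroup G) (fun y => starVal p h χ (i : kG) (y : G)) := by
  classical
  obtain ⟨f, hf, hcoh⟩ := exists_coherent hR hS hi h0
  obtain ⟨η, hη, hηh⟩ := hloc R f hf
  have hii : (i : kG) * i = i := congrArg Subtype.val hi.idem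
  -- projection to `R`
  have hdec : ∀ y : (R ⊔ S : Subgroup G), ∃ r : R, ∃ s ∈ S, (y : G) = r * s := fun y => by
    obtain ⟨r, hr, s, hs, he⟩ := exists_sup_mul hS y.2
    exact ⟨⟨r, hr⟩, s, hs, he⟩
  choose π hπ using hdec
  have hπp : ∀ y, ((π y : R) : G) = H20.pPart p (y : G) := fun y => by
    obtain ⟨s, hs, he⟩ := hπ y
    rw [he, pPart_of_mul hR hS hSp (π y).2 hs]
  let πH : (R ⊔ S : Subgroup G) →* R := MonoidHom.mk' π fun y z => by
    refine Subtype.ext ?_
    obtain ⟨s, hs, he⟩ := hπ y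
    obtain ⟨s', hs', he'⟩ := hπ z
    have hc : (π z : G) * s = s * π z := Subgroup.mem_centralizer_iff.1 (hS hs) _ (π z).2
    rw [hπp, Subgroup.coe_mul, he, he', show (π y : G) * s * (π z * s') = π y * π z * (s * s') by
      rw [mul_assoc, ← mul_assoc s, ← hc]; group,
      pPart_of_mul hR hS hSp (R.mul_mem (π y).2 (π z).2) (S.mul_mem hs hs')]
    rfl
  obtain ⟨α, β, hα, hβ, hαβ⟩ := hη
  -- a lift fixed by the whole subgroup
  let a' : MonoidAlgebra (H20.O M) G :=
    H20.ofFun fun x => Function.surjInv H20.red_surjective ((i : kG).coeff x)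
  have ha' : H20.rd a' = (i : kG) := by
    ext x
    simp [a', Function.surjInv_eq H20.red_surjective]
  obtain ⟨e, he, her, -, -, hz⟩ := exists_idem_lift a' (by rw [ha', hii])
  have hec : ∀ x ∈ R ⊔ S, Commute (gO M x) e := fun x hx => hz _ (by
    rw [H20.commute_single_iff]
    intro y
    simp only [a', H20.coeff_ofFun, i.2 x hx y])
  have hch := isCharacter_chiLin χ (R ⊔ S) he hec
  have hval : ∀ y : (R ⊔ S : Subgroup G), starVal p h χ (i : kG) (y : G) =
      η (π y) * chiLin χ (gO M (y : G) * e) := by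
    intro y
    have hQR : Subgroup.zpowers (H20.pPart p (y : G)) ≤ R :=
      Subgroup.zpowers_le.2 (hπp y ▸ (π y).2)
    obtain ⟨b0, hb0⟩ := exists_le p hf hQR
    have hb0m : b0 ∈ Bls M (H20.pPart p (y : G)) := mem_Bls.2 (hb0.pair_left p hf).2
    have hid : IsId (y : G) (i : kG) := ⟨hii, isFix_iff_cj.1 i.2 _ y.2⟩
    have hb0' := hcoh _ hQR b0 hb0
    rw [starVal, Finset.sum_eq_single b0 ?_ (fun hh => absurd hb0m hh)]
    · have hc0 := (mem_Bls.1 hb0m).cidem
      rw [show b0 * Br (Subgroup.zpowers (H20.pPart p (y : G))) (i : kG) =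
        Br (Subgroup.zpowers (H20.pPart p (y : G))) (i : kG) from
          (CIdem.comm hc0.fix hc0.supp (supp_Br _ _)).trans hb0', ← T_Br hM χ hid,
        T_eq χ he (her.trans ha') (hec _ y.2), ← hηh (π y) b0 (by rw [hπp]; exact hb0), hπp]
    · intro b hb hne
      have hbb := mem_Bls.1 hb
      have h00 : b * b0 = 0 := by
        by_contra hh
        exact hne (hbb.eq_of_mul_ne_zero (mem_Bls.1 hb0m) hh)
      have hc0 := (mem_Bls.1 hb0m).cidem
      rw [← hb0', ← CIdem.comm hc0.fix hc0.supp (supp_Br _ _), ← mul_assoc, h00, zero_mul, T_zero,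
        mul_zero]
  refine ⟨fun y => α (πH y) * chiLin χ (gO M (y : G) * e),
    fun y => β (πH y) * chiLin χ (gO M (y : G) * e),
    H12.IsCharacter.mul (H12.IsCharacter.comp hα πH) hch,
    H12.IsCharacter.mul (H12.IsCharacter.comp hβ πH) hch, ?_⟩
  funext y
  rw [hval, hαβ]
  simp only [Pi.sub_apply, sub_mul]
  rfl

open scoped Classical in
/-- The pairing of the value with a character of `R × S` is integral. -/
theorem exists_int_starVal (hM : IsPModular p M) (hinv : HInv h) (hloc : HLocal p h)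
    (R : Subgroup G) (hR : IsPGroup p R) {S : Subgroup G}
    (hS : S ≤ Subgroup.centralizer (R : Set G)) (hSp : ¬ p ∣ Nat.card S) (i : kG)
    (hii : i * i = i) (hif : IsFix (R ⊔ S) i) (θ : G → ℂ)
    (hθ : IsCharacter (R ⊔ S : Subgroup G) (fun y => θ (y : G))) :
    ∃ n : ℤ, ∑ y : (R ⊔ S : Subgroup G), starVal p h χ i (y : G) * conj (θ (y : G)) =
      (Nat.card (R ⊔ S : Subgroup G) : ℂ) * n := by
  classical
  induction R using WellFoundedLT.induction generalizing i θ with
  | _ R ih =>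
  set E : Subgroup G := R ⊔ S with hE
  obtain ⟨m, j, hjp, -, hjo, hjs⟩ := exists_decomp (k := H20.k M)
    (⟨i, hif⟩ : fixSub (H20.k M) E) (Subtype.ext hii)
  have hsum : ∑ l, ((j l : fixSub (H20.k M) E) : kG) = i := by
    rw [← AddSubmonoidClass.coe_finsetSum, hjs]
  suffices hone : ∀ l, ∃ n : ℤ, ∑ y : E, starVal p h χ (j l : kG) (y : G) * conj (θ (y : G)) =
      (Nat.card E : ℂ) * n by
    choose n hn using hone
    refine ⟨∑ l, n l, ?_⟩
    push_cast
    rw [Finset.mul_sum, ← Finset.sum_congr rfl fun l _ => hn l, Finset.sum_comm]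
    refine Finset.sum_congr rfl fun y _ => ?_
    rw [← Finset.sum_mul, ← starVal_sum Finset.univ _
      (fun l _ => ⟨congrArg Subtype.val (hjp l).idem, isFix_iff_cj.1 (j l).2 _ y.2⟩)
      (fun l _ l' _ hne => congrArg Subtype.val (hjo l l' hne)), hsum]
  intro l
  have hprim := hjp l
  generalize j l = i at hprim ⊢
  by_cases h0 : Br R (i : kG) = 0
  swap
  · obtain ⟨n, hn⟩ := H14.IsGeneralizedCharacter.classInner_int
      (exists_genChar_starVal (χ := χ) hM hloc hR hS hSp hprim h0) hθ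
    refine ⟨n, ?_⟩
    rw [← hn, classInner, ← mul_assoc, mul_inv_cancel₀ (Nat.cast_ne_zero.2 Nat.card_pos.ne'),
      one_mul]
  obtain ⟨M₁, a, hMs, hafix, hiai, htr⟩ := exists_tr hR hS hSp hprim h0
  obtain ⟨x, hxR, hxM⟩ := hMs.ne
  set E' : Subgroup G := M₁ ⊔ S with hE'
  have hE'E : E' ≤ E := sup_le_sup_right hMs.le S
  have hlt : M₁ < R := lt_of_le_not_ge hMs.le fun hh => hxM (hh hxR)
  have hM₁p : IsPGroup p M₁ := hR.to_le hMs.le
  have hSM₁ : S ≤ Subgroup.centralizer (M₁ : Set G) := hS.trans (centralizer_anti hMs.le)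
  have hθ' : IsCharacter E' (fun y => θ (y : G)) :=
    H12.IsCharacter.comp hθ (Subgroup.inclusion hE'E)
  have hiE' : IsFix E' (i : kG) := IsFix.mono i.2 hE'E
  -- conjugation by `x` on the fixed points
  have hxE' : ∀ y, y ∈ E' ↔ x * y * x⁻¹ ∈ E' := by
    have key : ∀ z ∈ R, ∀ y ∈ E', z * y * z⁻¹ ∈ E' := by
      intro z hz y hy
      obtain ⟨r, hr, s, hs, rfl⟩ := exists_sup_mul hSM₁ hy
      rw [show z * (r * s) * z⁻¹ = z * r * z⁻¹ * (z * s * z⁻¹) by group,
        show z * s * z⁻¹ = s by rw [Subgroup.mem_centralizer_iff.1 (hS hs) z hz,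
          mul_inv_cancel_right]]
      exact Subgroup.mul_mem _ (Subgroup.mem_sup_left
        ((Subgroup.mem_normalizer_iff.1 (hMs.norm hz) r).1 hr)) (Subgroup.mem_sup_right hs)
    intro y
    refine ⟨key x hxR y, fun hh => ?_⟩
    have := key x⁻¹ (R.inv_mem hxR) _ hh
    rwa [show x⁻¹ * (x * y * x⁻¹) * x⁻¹⁻¹ = y by group] at this
  have hcjfix : ∀ z : kG, IsFix E' z ↔ IsFix E' (cj x z) := by
    intro z
    rw [isFix_iff_cj, isFix_iff_cj]
    constructor
    · intro hz y hy
      have hy' : x⁻¹ * y * x ∈ E' := by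
        rw [hxE']
        simpa [mul_assoc] using hy
      conv_rhs => rw [← hz _ hy']
      rw [cj_cj, cj_cj]
      congr 2
      group
    · intro hz y hy
      have := congrArg (cj x⁻¹) (hz _ ((hxE' y).1 hy))
      rwa [cj_cj, cj_cj, cj_inv_cancel, show x⁻¹ * (x * y * x⁻¹) * x = y by group] at this
  let σ : fixSub (H20.k M) E' ≃ₐ[H20.k M] fixSub (H20.k M) E' :=
    AlgEquiv.ofBijective
      (((cj x).toAlgHom.comp (fixSub (H20.k M) E').val).codRestrict _ fun z => (hcjfix z).1 z.2)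
      ⟨fun z w hzw => Subtype.ext ((cj x).injective (congrArg Subtype.val hzw)),
        fun z => ⟨⟨cj x⁻¹ z, (hcjfix _).2 (by rw [cj_cancel_inv]; exact z.2)⟩,
          Subtype.ext (cj_cancel_inv x _)⟩⟩
  have hσ : ∀ z, ((σ z : fixSub (H20.k M) E') : kG) = cj x (z : kG) := fun z => rfl
  have hσpow : ∀ (t : ℕ) (z : fixSub (H20.k M) E'),
      (((σ ^ t) z : fixSub (H20.k M) E') : kG) = cj (x ^ t) (z : kG) := by
    intro t z
    induction t with
    | zero => simp
    | succ t iht => rw [pow_succ', AlgEquiv.mul_apply, hσ, iht, cj_cj, ← pow_succ']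
  set i' : fixSub (H20.k M) E' := ⟨i, hiE'⟩
  have hii' : i' * i' = i' := Subtype.ext (congrArg Subtype.val hprim.idem :)
  have hfixx : cj x (i : kG) = i := isFix_iff_cj.1 i.2 x (Subgroup.mem_sup_left hxR)
  have hσi : σ i' = i' := Subtype.ext hfixx
  have htrσ : ∑ t ∈ Finset.range p, (σ ^ t) (⟨a, hafix⟩ : fixSub (H20.k M) E') = i' := by
    refine Subtype.ext ?_
    rw [AddSubmonoidClass.coe_finsetSum]
    simp only [hσpow]
    exact htr x hxR hxM
  -- the integer attached to an idempotent of `E'`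
  have hex : ∀ z : fixSub (H20.k M) E', ∃ n : ℤ, z * z = z →
      ∑ y : E', starVal p h χ (z : kG) (y : G) * conj (θ (y : G)) = (Nat.card E' : ℂ) * n := by
    intro z
    by_cases hz : z * z = z
    · obtain ⟨n, hn⟩ := ih M₁ hlt hM₁p hSM₁ (z : kG) (congrArg Subtype.val hz) z.2 θ hθ'
      exact ⟨n, fun _ => hn⟩
    · exact ⟨0, fun hh => absurd hh hz⟩
  choose N hN using hex
  have hcardne : (Nat.card E' : ℂ) ≠ 0 := Nat.cast_ne_zero.2 Nat.card_pos.ne'
  have hNeq : ∀ z z' : fixSub (H20.k M) E', z * z = z → z' * z' = z' →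
      (∑ y : E', starVal p h χ (z : kG) (y : G) * conj (θ (y : G))) =
        ∑ y : E', starVal p h χ (z' : kG) (y : G) * conj (θ (y : G)) → N z = N z' := by
    intro z z' hz hz' he
    rw [hN z hz, hN z' hz'] at he
    exact_mod_cast mul_left_cancel₀ hcardne he
  have hid : ∀ (z : fixSub (H20.k M) E'), z * z = z → ∀ y : E', IsId (y : G) (z : kG) :=
    fun z hz y => ⟨congrArg Subtype.val hz, isFix_iff_cj.1 z.2 _ y.2⟩
  obtain ⟨m', j', hjp', -, hjo', hjs'⟩ := exists_decomp (k := H20.k M) i' hii'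
  have hdvd : ((∑ l, N (j' l) : ℤ) : H20.k M) = 0 := by
    push_cast
    refine sum_weight_eq_zero σ j' hjp' hjo' hjs' hσi htrσ (fun z => (N z : H20.k M))
      (fun e e' u v he he' huv hvu => ?_) fun e he h1 h2 => ?_
    · refine congrArg (fun q : ℤ => (q : H20.k M)) (hNeq e e' he.idem he'.idem
        (Finset.sum_congr rfl fun y _ => ?_))
      rw [starVal_equiv (hid e he.idem y) (hid e' he'.idem y) (isFix_iff_cj.1 u.2 _ y.2)
        (isFix_iff_cj.1 v.2 _ y.2) (congrArg Subtype.val huv) (congrArg Subtype.val hvu)]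
    · refine congrArg (fun q : ℤ => (q : H20.k M)) (hNeq (σ e) e (he.map σ).idem he.idem ?_)
      let cx : E' ≃ E' :=
        { toFun := fun y => ⟨x * y * x⁻¹, (hxE' _).1 y.2⟩
          invFun := fun y => ⟨x⁻¹ * y * x, (hxE' _).2 (by simp [mul_assoc])⟩
          left_inv := fun y => Subtype.ext (by simp [mul_assoc])
          right_inv := fun y => Subtype.ext (by simp [mul_assoc]) }
      refine (Fintype.sum_equiv cx _ _ fun y => ?_).symm
      show _ = starVal p h χ (σ e : kG) (x * (y : G) * x⁻¹) * conj (θ (x * (y : G) * x⁻¹))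
      rw [hσ, starVal_cj hinv x (hid e he.idem y)]
      congr 2
      exact (H12.IsCharacter.isClassFunction hθ ⟨y, hE'E y.2⟩ ⟨x, Subgroup.mem_sup_left hxR⟩).symm
  obtain ⟨q, hq⟩ := (CharP.intCast_eq_zero_iff (H20.k M) p _).1 hdvd
  refine ⟨q, ?_⟩
  -- the value vanishes off `E'`
  have hsplit : ∑ y : E, starVal p h χ (i : kG) (y : G) * conj (θ (y : G)) =
      ∑ y : E', starVal p h χ (i : kG) (y : G) * conj (θ (y : G)) := by
    let F : G → ℂ := fun g => starVal p h χ (i : kG) g * conj (θ g)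
    rw [show ∑ y : E, F (y : G) = ∑ g ∈ (Finset.univ.filter (· ∈ E)), F g from
        (Finset.sum_subtype _ (fun g => by simp) F).symm,
      show ∑ y : E', F (y : G) = ∑ g ∈ (Finset.univ.filter (· ∈ E')), F g from
        (Finset.sum_subtype _ (fun g => by simp) F).symm]
    refine (Finset.sum_subset (fun g hg => ?_) fun g hg hgn => ?_).symm
    · simp only [Finset.mem_filter, Finset.mem_univ, true_and] at hg ⊢
      exact hE'E hg
    · simp only [Finset.mem_filter, Finset.mem_univ, true_and] at hg hgn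
      simp only [F]
      rw [starVal_eq_zero_of_tr hR hS hSp hMs hafix htr hg hgn, zero_mul]
  have hcard : Nat.card E = Nat.card E' * p := by
    have hxpow : ∀ t : ℕ, x ^ t ∈ E := fun t =>
      Subgroup.mem_sup_left (R.pow_mem hxR t)
    let f : Fin p × E' → E := fun q => ⟨x ^ (q.1 : ℕ) * (q.2 : G), E.mul_mem (hxpow _) (hE'E q.2.2)⟩
    have hbij : Function.Bijective f := by
      constructor
      · rintro ⟨t, y⟩ ⟨t', y'⟩ hty
        have h1 : x ^ (t : ℕ) * (y : G) = x ^ (t' : ℕ) * (y' : G) := congrArg Subtype.val hty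
        obtain ⟨r, hr, s, hs, hy⟩ := exists_sup_mul hSM₁ y.2
        obtain ⟨r', hr', s', hs', hy'⟩ := exists_sup_mul hSM₁ y'.2
        have h2 := h1
        rw [hy, hy', ← mul_assoc, ← mul_assoc] at h2
        have h3 := congrArg (H20.pPart p) h2
        rw [pPart_of_mul hR hS hSp (R.mul_mem (R.pow_mem hxR _) (hMs.le hr)) hs,
          pPart_of_mul hR hS hSp (R.mul_mem (R.pow_mem hxR _) (hMs.le hr')) hs'] at h3
        have htt : t = t' := Fin.ext (hMs.coset_unique hxR hxM t.2 t'.2 hr hr' h3)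
        subst htt
        rw [Subtype.ext (mul_left_cancel h1) (a1 := y) (a2 := y')]
      · rintro ⟨g, hg⟩
        obtain ⟨r, hr, s, hs, rfl⟩ := exists_sup_mul hS hg
        obtain ⟨t, ht, y, hy, rfl⟩ := hMs.cosets x hxR hxM r hr
        exact ⟨(⟨t, ht⟩, ⟨y * s, E'.mul_mem (Subgroup.mem_sup_left hy) (Subgroup.mem_sup_right hs)⟩),
          Subtype.ext (mul_assoc _ _ _).symm⟩
    rw [← Nat.card_congr (Equiv.ofBijective f hbij), Nat.card_prod, Nat.card_eq_fintype_card,
      Fintype.card_fin, mul_comm]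
  have hjsum : ∑ l, ((j' l : fixSub (H20.k M) E') : kG) = (i : kG) := by
    rw [← AddSubmonoidClass.coe_finsetSum, hjs']
  calc ∑ y : E, starVal p h χ (i : kG) (y : G) * conj (θ (y : G))
      = ∑ l, ∑ y : E', starVal p h χ (j' l : kG) (y : G) * conj (θ (y : G)) := by
        rw [hsplit, Finset.sum_comm]
        refine Finset.sum_congr rfl fun y _ => ?_
        rw [← Finset.sum_mul, ← starVal_sum Finset.univ _ (fun l _ => hid _ (hjp' l).idem y)
          (fun l _ l' _ hne => congrArg Subtype.val (hjo' l l' hne)), hjsum]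
    _ = (Nat.card E : ℂ) * q := by
        rw [Finset.sum_congr rfl fun l _ => hN _ (hjp' l).idem, ← Finset.mul_sum, hcard,
          ← Int.cast_sum, hq]
        push_cast
        ring

/-- **Integrality**: the star construction gives generalised characters. -/
theorem isGeneralizedCharacter_starFn (hM : IsPModular p M) (hinv : HInv h) (hloc : HLocal p h)
    (χ : IrrCharacter G) : IsGeneralizedCharacter G (starFn p h χ) := by
  classical
  have hone : ∀ g : G, IsId g (1 : kG) := fun g => ⟨one_mul 1, map_one _⟩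
  refine H14.isGeneralizedCharacter_of_elementary _ (fun g x => ?_) fun E q hq hE => ?_
  · show starVal p h χ 1 (x * g * x⁻¹) = starVal p h χ 1 g
    conv_lhs => rw [← map_one (cj (k := H20.k M) x)]
    exact starVal_cj hinv x (hone g)
  haveI := H12.IsElementary.isNilpotent hq hE
  obtain ⟨P₀⟩ : Nonempty (Sylow p E) := inferInstance
  haveI : (P₀ : Subgroup E).Normal :=
    Sylow.normal_of_normalizerCondition Group.normalizerCondition_of_isNilpotent P₀
  obtain ⟨K₀, hK₀⟩ := Subgroup.exists_right_complement'_of_coprime P₀.card_coprime_index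
  have hKc : ¬ p ∣ Nat.card K₀ := by
    have hidx := Subgroup.IsComplement'.index_eq_card hK₀.symm
    rw [← hidx]
    exact P₀.not_dvd_index
  set R : Subgroup G := (P₀ : Subgroup E).map E.subtype with hRdef
  set S : Subgroup G := K₀.map E.subtype with hSdef
  have hRS : R ⊔ S = E := by
    rw [hRdef, hSdef, ← Subgroup.map_sup, hK₀.sup_eq_top, ← MonoidHom.range_eq_map, Subgroup.range_subtype]
  have hR : IsPGroup p R := P₀.2.map _
  have hS : S ≤ Subgroup.centralizer (R : Set G) := by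
    rintro _ ⟨z, hz, rfl⟩
    rw [Subgroup.mem_centralizer_iff]
    rintro _ ⟨y, hy, rfl⟩
    obtain ⟨e', he'⟩ := IsPGroup.iff_orderOf.1 P₀.2 ⟨y, hy⟩
    have hyo : orderOf y = p ^ e' := by
      rw [← he']
      exact orderOf_injective (P₀ : Subgroup E).subtype Subtype.val_injective ⟨y, hy⟩
    have hzo : ¬ p ∣ orderOf z := fun hd => hKc (hd.trans (K₀.orderOf_dvd_natCard hz))
    exact congrArg E.subtype (H33.commute_of_nilpotent ⟨e', hyo⟩ hzo).eq
  have hSp : ¬ p ∣ Nat.card S := by
    rwa [hSdef, ← Nat.card_congr (K₀.equivMapOfInjective _ E.subtype_injective).toEquiv]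
  rw [← hRS]
  rw [H12.isGeneralizedCharacter_iff]
  refine ⟨fun y x => ?_, fun ψ => ?_⟩
  · show starVal p h χ 1 ((x : G) * y * (x : G)⁻¹) = starVal p h χ 1 (y : G)
    conv_lhs => rw [← map_one (cj (k := H20.k M) (x : G))]
    exact starVal_cj hinv (x : G) (hone _)
  obtain ⟨n, hn⟩ := exists_int_starVal (χ := χ) hM hinv hloc R hR hS hSp 1 (one_mul 1) (isFix_one _)
    (extendByZero (R ⊔ S) (ψ : (R ⊔ S : Subgroup G) → ℂ)) (by
      convert H12.isCharacter_irr ψ using 1
      funext y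
      exact H14.extendByZero_of_mem _ _ y.2)
  refine ⟨n, ?_⟩
  rw [classInner, inv_mul_eq_div, div_eq_iff (Nat.cast_ne_zero.2 Nat.card_pos.ne'), mul_comm (n : ℂ),
    ← hn]
  refine Finset.sum_congr rfl fun y _ => ?_
  congr 2
  exact (H14.extendByZero_of_mem _ _ y.2).symm

end H23
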