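import Cfsg.Agent.H23.StarInt
import Cfsg.Agent.H23.Bridge
import Cfsg.Agent.H19.SubsectionNorm
import Cfsg.Agent.H22.Subsections

/-!
# The values on the section of a `p`-element and the norm of the star construction

`H23.T_eG`: the value on `u s` at a block of `C(u)` is the block part of the translate at `s`.
`H23.classInner_starFn`: the inner product of two stars as a sum over pairs `(u, b)`.
`H23.T_star`: the values of an irreducible star are the scaled values.
-/

set_option autoImplicit false
set_option linter.style.haveILetI false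
set_option linter.unusedSectionVars false

open Cfsg
open scoped MonoidAlgebra ComplexConjugate

namespace H23

universe u

variable {G : Type u} [Group G] [Fintype G] {p : ℕ} [hp : Fact p.Prime] {M : Ideal AlgInt}
  [hMp : M.IsPrime] [CharP (H20.k M) p] [IsAlgClosed (H20.k M)]

local notation "kG" => MonoidAlgebra (H20.k M) G

theorem centralizer_zpowers (u : G) :
    Subgroup.centralizer (Subgroup.zpowers u : Set G) = Subgroup.centralizer ({u} : Set G) := by
  rw [Subgroup.zpowers_eq_closure, Subgroup.centralizer_closure]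

/-- The block idempotent of `G` lifted to `O[G]`. -/
theorem exists_lift_eB {B : Set (IrrCharacter G)} (hB : IsPBlock M B) :
    ∃ f : MonoidAlgebra (H20.O M) G, f * f = f ∧ H20.rd f = eB M B ∧ H20.IsCl f ∧
      ∀ g, (f.coeff g : ℂ) = blockCoeff B g := by
  obtain ⟨f, hf, hrd, hemb⟩ := H20.exists_lift_eRed (H20.memRing_blockCoeff hB)
  refine ⟨f, H20.emb_injective ?_, hrd, hf, fun g => ?_⟩
  · rw [show H20.emb (f * f) = H20.emb f * H20.emb f from map_mul _ _ _, hemb,
      H20.eIdem_mul_self]
  · rw [← H20.coeff_emb, hemb]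
    simp [H20.eIdem]

theorem commute_gO_of_isCl {f : MonoidAlgebra (H20.O M) G} (hf : H20.IsCl f) (g : G) :
    Commute (gO M g) f := (H20.commute_single_iff _ _).2 fun y => hf y g

open scoped Classical in
theorem chiLin_mul_block (χ : IrrCharacter G) {B : Set (IrrCharacter G)}
    {f : MonoidAlgebra (H20.O M) G} (hf : ∀ g, (f.coeff g : ℂ) = blockCoeff B g)
    (z : MonoidAlgebra (H20.O M) G) :
    chiLin χ (z * f) = (if χ ∈ B then chiLin χ z else 0) := by
  classical
  have key : chiLin χ (z * f) =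
      ∑ x : G, (z.coeff x : ℂ) * ∑ y : G, blockCoeff B y * (χ : G → ℂ) (y * x) := by
    simp only [chiLin, H20.coeff_mul_group, AddSubmonoidClass.coe_finsetSum, Finset.sum_mul,
      MulMemClass.coe_mul, hf, Finset.mul_sum]
    rw [Finset.sum_comm]
    refine Finset.sum_congr rfl fun x _ => ?_
    refine (Fintype.sum_equiv (Equiv.mulLeft x) _ _ fun y => ?_).symm
    simp only [Equiv.coe_mulLeft, inv_mul_cancel_left]
    rw [show (χ : G → ℂ) (y * x) = (χ : G → ℂ) (x * y) by
      rw [← H12.irr_isClassFunction χ (x * y) x⁻¹]; congr 1; group]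
    ring
  rw [key]
  simp only [H20.sum_blockCoeff_mul_irr]
  split_ifs
  · rfl
  · simp

open scoped Classical in
/-- Inside the block the idempotent of the block may be inserted. -/
theorem T_mul_eB {B : Set (IrrCharacter G)} (hB : IsPBlock M B) (χ : IrrCharacter G) {g : G}
    {a : kG} (ha : IsId g a) :
    T χ g (a * eB M B) = (if χ ∈ B then T χ g a else 0) := by
  obtain ⟨e, he, her, hec⟩ := ha.lift
  obtain ⟨f, hf, hrd, hcl, hco⟩ := exists_lift_eB (M := M) hB
  have hef : Commute e f := by
    have h : ∀ x y, f.coeff (x * y * x⁻¹) = f.coeff y := fun x y => hcl y x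
    clear he her hec
    induction e using MonoidAlgebra.induction_linear with
    | zero => exact Commute.zero_left _
    | add x y hx hy => exact hx.add_left hy
    | single x r =>
      rw [show MonoidAlgebra.single x r = r • gO M x by simp]
      exact (commute_gO_of_isCl hcl x).smul_left r
  rw [T_eq χ (e := e * f) (by rw [mul_assoc, ← mul_assoc f, ← hef.eq, mul_assoc e f f, hf, ← mul_assoc, he])
    (by rw [rd_mul, her, hrd]) (hec.mul_right (commute_gO_of_isCl hcl g)),
    T_eq χ he her hec, ← mul_assoc, chiLin_mul_block χ hco]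

/-- A block outside `B` gives zero on the characters of `B`. -/
theorem T_eq_zero_of_not_inBlk (hM : IsPModular p M) {B : Set (IrrCharacter G)}
    (hB : IsPBlock M B) {χ : IrrCharacter G} (hχ : χ ∈ B) {g : G} {b : kG}
    (hb : b ∈ Bls M (H20.pPart p g)) (hn : ¬ InBlk (eB M B) (Subgroup.zpowers (H20.pPart p g)) b) :
    T χ g b = 0 := by
  set Q := Subgroup.zpowers (H20.pPart p g) with hQ
  have hbb := mem_Bls.1 hb
  have hbid : IsId g b :=
    ⟨hbb.cidem.idem, isFix_iff_cj.1 hbb.cidem.fix g (mem_centralizer_pPart g)⟩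
  have hEfix : cj g (eB M B) = eB M B := cj_eq_self_of_central (cidem_eB hB).fix g
  have h1 := T_mul_eB hB χ hbid
  rw [if_pos hχ] at h1
  have hbE : IsId g (b * eB M B) := by
    refine ⟨?_, by rw [map_mul, hbid.fix, hEfix]⟩
    have hc : eB M B * b = b * eB M B :=
      CIdem.comm (cidem_eB hB).fix (cidem_eB hB).supp (supp_top b)
    rw [mul_assoc, ← mul_assoc (eB M B), hc, mul_assoc b (eB M B), (cidem_eB hB).idem, ← mul_assoc,
      hbid.idem]
  have h0 : b * Br Q (eB M B) = 0 :=
    (hbb.prim _ ((cidem_eB hB).Br (isPGroup_zpowers_pPart g) le_top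
      ((cidem_eB hB).fix.mono le_top))).resolve_right hn
  rw [← h1, T_Br hM χ hbE, ← hQ, hQ, Br_fix_mul hbid.fix hEfix, Br_eq_self hbb.cidem.supp, ← hQ,
    h0, T_zero]

open scoped Classical in
/-- For a character of `B` the Brauer image of the block idempotent may be inserted. -/
theorem T_one_eq_eB {B : Set (IrrCharacter G)} (hB : IsPBlock M B) (χ : IrrCharacter G) (g : G) :
    T χ g (eB M B) = (if χ ∈ B then (χ : G → ℂ) g else 0) := by
  have h1 : IsId g (1 : kG) := ⟨one_mul 1, map_one _⟩
  rw [← one_mul (eB M B), T_mul_eB hB χ h1, T_one]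

/-- **The value on a section**: the block part of the translate. -/
theorem T_eG {u : G} (hu : ∃ j : ℕ, orderOf u = p ^ j) (H : Subgroup G) [Fintype H]
    (hH : H = Subgroup.centralizer (Subgroup.zpowers u : Set G)) {β : Set (IrrCharacter H)}
    (hβ : IsPBlock M β) (χ : IrrCharacter G) (s : H) :
    T χ (u * (s : G)) (eG M H β) =
      blockPart β (fun c : H => (χ : G → ℂ) (u * (c : G))) s := by
  classical
  obtain ⟨f, hf, hrd, hcl, hco⟩ := exists_lift_eB (M := M) hβ
  have huc : ∀ c : H, u * (c : G) = (c : G) * u := fun c => by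
    have h : (c : G) ∈ Subgroup.centralizer (Subgroup.zpowers u : Set G) := hH.le c.2
    exact Subgroup.mem_centralizer_iff.1 h u (Subgroup.mem_zpowers u)
  let ι : MonoidAlgebra (H20.O M) H →ₐ[H20.O M] MonoidAlgebra (H20.O M) G :=
    MonoidAlgebra.mapDomainAlgHom (H20.O M) (H20.O M) H.subtype
  set e := ι f with he
  have hcoe : ∀ c : H, e.coeff (c : G) = f.coeff c := fun c =>
    Finsupp.mapDomain_apply Subtype.val_injective f.coeff c
  have hnot : ∀ g, g ∉ H → e.coeff g = 0 := fun g hg =>
    Finsupp.mapDomain_of_notMem_range f.coeff g fun ⟨c, hc⟩ => hg (hc ▸ c.2)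
  have her : H20.rd e = eG M H β := by
    ext g
    rw [H20.coeff_rd, coeff_eG, subgroupBlockCoeff]
    by_cases hg : g ∈ H
    · rw [dif_pos hg, show e.coeff g = f.coeff ⟨g, hg⟩ from hcoe ⟨g, hg⟩, ← hco ⟨g, hg⟩,
        H20.redC_coe]
    · rw [dif_neg hg, hnot g hg, map_zero, H20.redC_zero]
  have husH : u * (s : G) ∈ H := by
    refine H.mul_mem ?_ s.2
    rw [hH, Subgroup.mem_centralizer_iff]
    intro y hy
    obtain ⟨n, rfl⟩ := Subgroup.mem_zpowers_iff.1 hy
    exact ((Commute.refl u).zpow_left n).eq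
  have hec : Commute (gO M (u * (s : G))) e := by
    rw [H20.commute_single_iff]
    intro y
    by_cases hy : y ∈ H
    · rw [show e.coeff y = f.coeff ⟨y, hy⟩ from hcoe ⟨y, hy⟩,
        show e.coeff (u * (s : G) * y * (u * (s : G))⁻¹) =
          f.coeff (⟨_, husH⟩ * ⟨y, hy⟩ * (⟨_, husH⟩ : H)⁻¹) from
            hcoe (⟨_, husH⟩ * ⟨y, hy⟩ * (⟨_, husH⟩ : H)⁻¹)]
      exact hcl _ _
    · rw [hnot y hy, hnot _ fun h => hy ?_]
      have := H.mul_mem (H.mul_mem (H.inv_mem husH) h) husH
      rwa [show (u * (s : G))⁻¹ * (u * (s : G) * y * (u * (s : G))⁻¹) * (u * (s : G)) = y by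
        group] at this
  rw [T_eq χ (by rw [he, ← map_mul, hf]) her hec, ← H20.sum_blockCoeff_mul β
    (fun x y => by
      simp only [Subgroup.coe_mul, Subgroup.coe_inv]
      rw [show u * ((y : G) * x * (y : G)⁻¹) = (y : G) * (u * x) * (y : G)⁻¹ by
        rw [← mul_assoc, ← mul_assoc, huc y]; group]
      exact H12.irr_isClassFunction χ _ _)]
  have key : chiLin χ (gO M (u * (s : G)) * e) =
      ∑ x : G, (e.coeff x : ℂ) * (χ : G → ℂ) (u * (s : G) * x) := by
    rw [chiLin]
    refine (Fintype.sum_equiv (Equiv.mulLeft (u * (s : G))) _ _ fun x => ?_).symm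
    simp only [Equiv.coe_mulLeft]
    rw [H20.coeff_single_one_mul, inv_mul_cancel_left]
  rw [key, ← Finset.sum_subset (Finset.subset_univ (Finset.univ.image (fun c : H => (c : G))))
    (fun x _ hx => by
      rw [hnot x fun h => hx (Finset.mem_image.2 ⟨⟨x, h⟩, Finset.mem_univ _, rfl⟩)]
      simp), Finset.sum_image (fun a _ b _ h => Subtype.ext h)]
  refine Finset.sum_congr rfl fun c _ => ?_
  rw [hcoe, hco]
  congr 1
  rw [Subgroup.coe_mul, ← H12.irr_isClassFunction χ (u * ((c : G) * s)) (s : G)]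
  congr 1
  rw [← mul_assoc (s : G) u, ← huc s]
  group

theorem exists_eq_eG {u : G} (H : Subgroup G) [Fintype H]
    (hH : H = Subgroup.centralizer (Subgroup.zpowers u : Set G)) {b : kG} (hb : b ∈ Bls M u) :
    ∃ β : Set (IrrCharacter H), IsPBlock M β ∧ eG M H β = b := by
  subst hH
  exact exists_pblock_eq (mem_Bls.1 hb)

theorem eG_mem_Bls {u : G} (H : Subgroup G) [Fintype H]
    (hH : H = Subgroup.centralizer (Subgroup.zpowers u : Set G)) {β : Set (IrrCharacter H)}
    (hβ : IsPBlock M β) : eG M H β ∈ Bls M u := by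
  subst hH
  exact mem_Bls.2 (isBlk_eG hβ)

open scoped Classical in
/-- Elements with `p`-part `u` are `u` times the regular elements of `C(u)`. -/
theorem sum_section {u : G} (hu : ∃ j : ℕ, orderOf u = p ^ j) (H : Subgroup G) [Fintype H]
    (hH : H = Subgroup.centralizer (Subgroup.zpowers u : Set G)) (F : G → ℂ) :
    ∑ g ∈ Finset.univ.filter (fun g : G => H20.pPart p g = u), F g =
      ∑ s ∈ Finset.univ.filter (fun s : H => ¬ p ∣ orderOf s), F (u * (s : G)) := by
  classical
  symm
  have hmem : ∀ g, H20.pPart p g = u → H20.qPart p g ∈ H := fun g hg => by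
    rw [hH, centralizer_zpowers, Subgroup.mem_centralizer_singleton_iff, ← hg]
    exact (H20.commute_pPart_qPart g).eq.symm
  refine Finset.sum_bij (fun s _ => u * (s : G)) (fun s hs => ?_) (fun a _ b _ h => ?_)
    (fun g hg => ?_) (fun s _ => rfl)
  · simp only [Finset.mem_filter, Finset.mem_univ, true_and] at hs ⊢
    have hc : u * (s : G) = (s : G) * u :=
      Subgroup.mem_centralizer_iff.1 (hH.le s.2) u (Subgroup.mem_zpowers u)
    exact (H20.isPPart_unique' rfl hc hu (by rwa [Subgroup.orderOf_coe])).1.symm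
  · exact Subtype.ext (mul_left_cancel h)
  · simp only [Finset.mem_filter, Finset.mem_univ, true_and] at hg
    refine ⟨⟨H20.qPart p g, hmem g hg⟩, ?_, ?_⟩
    · simp only [Finset.mem_filter, Finset.mem_univ, true_and, Subgroup.orderOf_mk]
      exact H20.not_dvd_orderOf_qPart g
    · show u * H20.qPart p g = g
      rw [← hg, H20.pPart_mul_qPart]

/-- The pairing of two characters on the section of `(u, b)`. -/
noncomputable def pairC (p : ℕ) (u : G) (b : kG) (χ ψ : IrrCharacter G) : ℂ :=
  (Nat.card (Subgroup.centralizer (Subgroup.zpowers u : Set G)) : ℂ)⁻¹ *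
    ∑ g : G, open Classical in if H20.pPart p g = u then T χ g b * conj (T ψ g b) else 0

open scoped Classical in
theorem sum_section_mul {u : G} (hu : ∃ j : ℕ, orderOf u = p ^ j) (H : Subgroup G) [Fintype H]
    (hH : H = Subgroup.centralizer (Subgroup.zpowers u : Set G)) {β β' : Set (IrrCharacter H)}
    (hβ : IsPBlock M β) (hβ' : IsPBlock M β') (χ ψ : IrrCharacter G) :
    ∑ g ∈ Finset.univ.filter (fun g : G => H20.pPart p g = u),
        T χ g (eG M H β) * conj (T ψ g (eG M H β')) =
      (Nat.card H : ℂ) * classInner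
        (pRegularPart p (blockPart β (fun c : H => (χ : G → ℂ) (u * (c : G)))))
        (pRegularPart p (blockPart β' (fun c : H => (ψ : G → ℂ) (u * (c : G))))) := by
  classical
  rw [sum_section hu H hH, classInner, ← mul_assoc,
    mul_inv_cancel₀ (Nat.cast_ne_zero.2 Nat.card_pos.ne'), one_mul, Finset.sum_filter]
  refine Finset.sum_congr rfl fun s _ => ?_
  by_cases hs : p ∣ orderOf s
  · rw [if_neg (not_not.2 hs), H22.pRegularPart_of_dvd _ hs, zero_mul]
  · rw [if_pos hs, H22.pRegularPart_of_not_dvd _ hs, H22.pRegularPart_of_not_dvd _ hs,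
      T_eG hu H hH hβ, T_eG hu H hH hβ']

/-- The pairing in terms of the block of `C(u)`. -/
theorem pairC_eq {u : G} (hu : ∃ j : ℕ, orderOf u = p ^ j) (H : Subgroup G) [Fintype H]
    (hH : H = Subgroup.centralizer (Subgroup.zpowers u : Set G)) {β : Set (IrrCharacter H)}
    (hβ : IsPBlock M β) (χ ψ : IrrCharacter G) :
    pairC p u (eG M H β) χ ψ = classInner
        (pRegularPart p (blockPart β (fun c : H => (χ : G → ℂ) (u * (c : G)))))
        (pRegularPart p (blockPart β (fun c : H => (ψ : G → ℂ) (u * (c : G))))) := by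
  classical
  have h := sum_section_mul (p := p) hu H hH hβ hβ χ ψ
  rw [Finset.sum_filter] at h
  rw [pairC]
  have : ∀ g : G, (open Classical in if H20.pPart p g = u then
      T χ g (eG M H β) * conj (T ψ g (eG M H β)) else 0) =
      if H20.pPart p g = u then T χ g (eG M H β) * conj (T ψ g (eG M H β)) else 0 :=
    fun g => by split_ifs <;> rfl
  rw [Finset.sum_congr rfl fun g _ => this g, h, ← hH, ← mul_assoc,
    inv_mul_cancel₀ (Nat.cast_ne_zero.2 Nat.card_pos.ne'), one_mul]

open scoped Classical in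
/-- Different blocks of `C(u)` are orthogonal on the section. -/
theorem sum_section_ne (hM : IsPModular p M) {u : G} (hu : ∃ j : ℕ, orderOf u = p ^ j) {b b' : kG}
    (hb : b ∈ Bls M u) (hb' : b' ∈ Bls M u) (hne : b ≠ b') (χ ψ : IrrCharacter G) :
    ∑ g ∈ Finset.univ.filter (fun g : G => H20.pPart p g = u),
        T χ g b * conj (T ψ g b') = 0 := by
  classical
  set H := Subgroup.centralizer (Subgroup.zpowers u : Set G)
  haveI := Fintype.ofFinite H
  obtain ⟨β, hβ, rfl⟩ := exists_eq_eG H rfl hb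
  obtain ⟨β', hβ', rfl⟩ := exists_eq_eG H rfl hb'
  rw [sum_section_mul hu H rfl hβ hβ']
  have h1 := H22.Sub.regSpan_le_irrSpan hM hβ
    (H22.Sub.regMap_blockPart_mem (p := p) β (fun c : H => (χ : G → ℂ) (u * (c : G))))
  have h2 := H22.Sub.regSpan_le_irrSpan hM hβ'
    (H22.Sub.regMap_blockPart_mem (p := p) β' (fun c : H => (ψ : G → ℂ) (u * (c : G))))
  have hββ : β' ≠ β := fun h => hne (by rw [h])
  rw [H22.Sub.regMap_apply] at h1 h2
  rw [← H22.Sub.blockPart_of_mem_irrSpan h1, H22.Sub.blockPart_eq_smul_sum, H12.classInner_sum_left,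
    Finset.sum_eq_zero, mul_zero]
  intro η hη
  have h0 : classInner (η : H → ℂ)
      (pRegularPart p (blockPart β' (fun c : H => (ψ : G → ℂ) (u * (c : G))))) = 0 := by
    rw [← H22.Sub.blockPart_of_mem_irrSpan h2, H22.Sub.blockPart_eq_smul_sum,
      H12.classInner_sum_right]
    refine Finset.sum_eq_zero fun η' hη' => ?_
    rw [H12.classInner_smul_right, H12.classInner_irr_ne, mul_zero]
    intro h
    exact hββ (H20.block_eq_of_mem hβ' hβ (H22.mem_blockFinset.1 hη') (h ▸ H22.mem_blockFinset.1 hη))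
  rw [H12.classInner_smul_left, h0, mul_zero]

variable {h h' : G → MonoidAlgebra (H20.k M) G → ℂ}

theorem starFn_eq (χ : IrrCharacter G) (g : G) :
    starFn p h χ g = ∑ b ∈ Bls M (H20.pPart p g), h (H20.pPart p g) b * T χ g b := by
  simp only [starFn, starVal, Br_one, mul_one]

open Classical in
/-- The inner product of two stars. -/
theorem classInner_starFn (hM : IsPModular p M) (χ ψ : IrrCharacter G) :
    classInner (starFn p h χ) (starFn p h' ψ) = (Nat.card G : ℂ)⁻¹ *
      ∑ u ∈ Finset.univ.filter (fun u : G => ∃ j : ℕ, orderOf u = p ^ j), ∑ b ∈ Bls M u,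
        h u b * conj (h' u b) *
          ((Nat.card (Subgroup.centralizer (Subgroup.zpowers u : Set G)) : ℂ) *
            pairC p u b χ ψ) := by
  rw [classInner]
  congr 1
  rw [← Finset.sum_fiberwise_of_maps_to (t := Finset.univ.filter (fun u : G => ∃ j : ℕ, orderOf u = p ^ j))
    (g := fun g : G => H20.pPart p g)
    (fun g _ => Finset.mem_filter.2 ⟨Finset.mem_univ _, H20.exists_orderOf_pPart g⟩)]
  refine Finset.sum_congr rfl fun u hu => ?_
  have hu' := (Finset.mem_filter.1 hu).2
  have hexp : ∀ g ∈ Finset.univ.filter (fun g : G => H20.pPart p g = u),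
      starFn p h χ g * conj (starFn p h' ψ g) = ∑ b ∈ Bls M u, ∑ b' ∈ Bls M u,
        h u b * conj (h' u b') * (T χ g b * conj (T ψ g b')) := by
    intro g hg
    rw [starFn_eq, starFn_eq, (Finset.mem_filter.1 hg).2, map_sum, Finset.sum_mul_sum]
    exact Finset.sum_congr rfl fun b _ => Finset.sum_congr rfl fun b' _ => by rw [map_mul]; ring
  rw [Finset.sum_congr rfl hexp, Finset.sum_comm]
  refine Finset.sum_congr rfl fun b hb => ?_
  rw [Finset.sum_comm, Finset.sum_eq_single b]
  · rw [← Finset.mul_sum]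
    congr 1
    rw [pairC, ← mul_assoc, mul_inv_cancel₀ (Nat.cast_ne_zero.2 Nat.card_pos.ne'), one_mul,
      Finset.sum_filter]
  · intro b' hb' hne
    rw [← Finset.mul_sum, sum_section_ne hM hu' hb hb' hne.symm, mul_zero]
  · exact fun hh => absurd hb hh

/-- The values of an irreducible star are the scaled values. -/
theorem T_star (hM : IsPModular p M) {χ ξ : IrrCharacter G}
    (hξ : (ξ : G → ℂ) = starFn p h χ) {g : G} {b : kG} (hb : b ∈ Bls M (H20.pPart p g)) :
    T ξ g b = h (H20.pPart p g) b * T χ g b := by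
  classical
  set u := H20.pPart p g with hu
  set H := Subgroup.centralizer (Subgroup.zpowers u : Set G) with hH
  haveI := Fintype.ofFinite H
  have hu' : ∃ j : ℕ, orderOf u = p ^ j := H20.exists_orderOf_pPart g
  have hq : H20.qPart p g ∈ H := by
    rw [hH, centralizer_zpowers, Subgroup.mem_centralizer_singleton_iff, hu]
    exact (H20.commute_pPart_qPart g).eq.symm
  set s : H := ⟨H20.qPart p g, hq⟩
  have hg : u * (s : G) = g := H20.pPart_mul_qPart g
  have hs : ¬ p ∣ orderOf s := by
    rw [← Subgroup.orderOf_coe]; exact H20.not_dvd_orderOf_qPart g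
  have hex : ∀ c : kG, ∃ γ : Set (IrrCharacter H),
      c ∈ Bls M u → IsPBlock M γ ∧ eG M H γ = c := fun c => by
    by_cases hc : c ∈ Bls M u
    · obtain ⟨γ, h1, h2⟩ := exists_eq_eG (M := M) H hH hc
      exact ⟨γ, fun _ => ⟨h1, h2⟩⟩
    · exact ⟨∅, fun h' => absurd h' hc⟩
  choose γ hγ using hex
  obtain ⟨β, hβ, rfl⟩ := exists_eq_eG (M := M) H hH hb
  let part : IrrCharacter G → kG → H → ℂ := fun φ c =>
    blockPart (γ c) (fun z : H => (φ : G → ℂ) (u * (z : G)))
  have hval : ∀ w : H, ¬ p ∣ orderOf w → (ξ : G → ℂ) (u * (w : G)) =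
      (∑ c ∈ Bls M u, h u c • part χ c) w := by
    intro w hw
    have hpu : H20.pPart p (u * (w : G)) = u :=
      (H20.isPPart_unique' rfl (Subgroup.mem_centralizer_iff.1 w.2 u (Subgroup.mem_zpowers u)) hu'
        (by rwa [Subgroup.orderOf_coe])).1.symm
    rw [hξ, starFn_eq, hpu, Finset.sum_apply]
    refine Finset.sum_congr rfl fun c hc => ?_
    obtain ⟨h1, h2⟩ := hγ c hc
    rw [Pi.smul_apply, smul_eq_mul]
    congr 1
    conv_lhs => rw [← h2]
    exact T_eG hu' H hH h1 χ w
  conv_lhs => rw [← hg]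
  conv_rhs => arg 2; rw [← hg]
  rw [T_eG hu' H hH hβ, T_eG hu' H hH hβ,
    H22.Sub.blockPart_congr hM hβ (f' := ∑ c ∈ Bls M u, h u c • part χ c) hval hs,
    ← H22.Sub.partMap_apply, map_sum, Finset.sum_apply, Finset.sum_eq_single (eG M H β)]
  · obtain ⟨h1, h2⟩ := hγ _ hb
    rw [map_smul, Pi.smul_apply, smul_eq_mul, H22.Sub.partMap_apply]
    congr 1
    simp only [part, eG_injective h1 hβ h2]
    rw [H22.Sub.blockPart_of_mem_irrSpan (H22.Sub.blockPart_mem_irrSpan _ _)]
  · intro c hc hne
    obtain ⟨h1, h2⟩ := hγ c hc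
    rw [map_smul, H22.Sub.partMap_apply]
    simp only [part]
    rw [H22.Sub.blockPart_of_mem_irrSpan_ne hβ h1 (fun hh => hne (by rw [← h2, hh]))
      (H22.Sub.blockPart_mem_irrSpan _ _)]
    simp
  · exact fun hh => absurd hb hh

end H23
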